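import Mathlib

/-!
The diophantine problem for the degrees in Janko's order calculation (eight odd rows).
-/

set_option autoImplicit false

namespace H16.J1

/-- The finite check. -/
def chk (i j : ℕ) : Bool :=
  let A : ℤ := 8 * (i : ℤ) - 699
  let B : ℤ := 8 * (j : ℤ) - 699
  let s := A + B
  let p := A * B
  let C := s - 1
  let num := p * C + p - 25 * C * s
  let den := 86400 * p * C
  if num = 0 then true else if den % num ≠ 0 then true else
    let g := den / num
    if g ≤ 0 ∨ g % 120 ≠ 0 ∨ (g / 8) % 2 ≠ 1 ∨ g % A ≠ 0 ∨ g % B ≠ 0 ∨ g % C ≠ 0 ∨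
      g ≤ A * A + B * B + C * C then true else
      let D := 250 * C - 4 * p
      let n := 54 * p * C
      if D = 0 then true else if n % D ≠ 0 then true else
        let d := s * s - 4 * (n / D)
        if d < 0 then true else if d.toNat.sqrt * d.toNat.sqrt ≠ d.toNat then true else
          decide (g = 175560 ∨ (g = 189000 ∧ n / D = -735 ∧ ((A = -35 ∧ B = 21) ∨ (A = 21 ∧ B = -35))))

theorem chk_all : ((List.range 176).all fun i => (List.range 176).all fun j => chk i j) = true := by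
  decide +kernel

theorem chk_spec {g A B P P' : ℤ} (i j : ℕ) (hi : i < 176) (hj : j < 176)
    (hA : A = 8 * (i : ℤ) - 699) (hB : B = 8 * (j : ℤ) - 699)
    (hg : g * (A * B * (A + B - 1) + A * B - 25 * (A + B - 1) * (A + B)) =
      86400 * (A * B) * (A + B - 1))
    (hP : P + P' = A + B)
    (hq : P * P' * (250 * (A + B - 1) - 4 * (A * B)) = 54 * (A * B) * (A + B - 1))
    (hnz : A * B * (A + B - 1) ≠ 0)
    (hpos : 0 < g) (h120 : (120 : ℤ) ∣ g) (hodd : (g / 8) % 2 = 1) (dA : A ∣ g) (dB : B ∣ g)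
    (dC : A + B - 1 ∣ g) (hsq : A * A + B * B + (A + B - 1) * (A + B - 1) < g) :
    g = 175560 ∨ (g = 189000 ∧ ((A = -35 ∧ B = 21) ∨ (A = 21 ∧ B = -35)) ∧
      ((P = -35 ∧ P' = 21) ∨ (P = 21 ∧ P' = -35))) := by
  have h := chk_all
  rw [List.all_eq_true] at h
  have h := h i (List.mem_range.2 hi)
  rw [List.all_eq_true] at h
  have h := h j (List.mem_range.2 hj)
  unfold chk at h
  simp only [← hA, ← hB] at h
  set num := A * B * (A + B - 1) + A * B - 25 * (A + B - 1) * (A + B) with hnum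
  set den := 86400 * (A * B) * (A + B - 1) with hden
  have hden0 : den ≠ 0 := by
    rw [hden, mul_assoc]; exact mul_ne_zero (by norm_num) hnz
  have hnum0 : num ≠ 0 := fun h0 => hden0 (by rw [← hg, h0, mul_zero])
  have hdiv : den % num = 0 := Int.emod_eq_zero_of_dvd ⟨g, by rw [← hg, mul_comm]⟩
  have hq1 : den / num = g := by rw [← hg]; exact Int.mul_ediv_cancel g hnum0
  rw [if_neg hnum0, if_neg (not_not.2 hdiv), hq1] at h
  have hc : ¬(g ≤ 0 ∨ g % 120 ≠ 0 ∨ (g / 8) % 2 ≠ 1 ∨ g % A ≠ 0 ∨ g % B ≠ 0 ∨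
      g % (A + B - 1) ≠ 0 ∨ g ≤ A * A + B * B + (A + B - 1) * (A + B - 1)) := by
    simp only [not_or, not_le, not_not]
    exact ⟨hpos, Int.emod_eq_zero_of_dvd h120, hodd, Int.emod_eq_zero_of_dvd dA,
      Int.emod_eq_zero_of_dvd dB, Int.emod_eq_zero_of_dvd dC, hsq⟩
  rw [if_neg hc] at h
  set D := 250 * (A + B - 1) - 4 * (A * B) with hD
  set n := 54 * (A * B) * (A + B - 1) with hn
  have hn0 : n ≠ 0 := by rw [hn, mul_assoc]; exact mul_ne_zero (by norm_num) hnz
  have hD0 : D ≠ 0 := fun h0 => hn0 (by rw [← hq, h0, mul_zero])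
  have hdiv2 : n % D = 0 := Int.emod_eq_zero_of_dvd ⟨P * P', by rw [← hq, mul_comm]⟩
  have hq2 : n / D = P * P' := by rw [← hq]; exact Int.mul_ediv_cancel _ hD0
  have hdisc : (A + B) * (A + B) - 4 * (P * P') = (P - P') * (P - P') := by rw [← hP]; ring
  rw [if_neg hD0, if_neg (not_not.2 hdiv2), hq2, hdisc, if_neg (not_lt.2 (mul_self_nonneg _))] at h
  have hsqrt : ((P - P') * (P - P')).toNat.sqrt * ((P - P') * (P - P')).toNat.sqrt =
      ((P - P') * (P - P')).toNat := by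
    have e : ((P - P') * (P - P')).toNat = (P - P').natAbs * (P - P').natAbs := by
      rw [← Int.natAbs_mul_self, Int.toNat_natCast]
    rw [e, Nat.sqrt_eq]
  rw [if_neg (not_not.2 hsqrt), decide_eq_true_iff] at h
  rcases h with h | ⟨h1, h2, h3⟩
  · exact Or.inl h
  · refine Or.inr ⟨h1, h3, ?_⟩
    have hs : P + P' = -14 := by rcases h3 with ⟨rfl, rfl⟩ | ⟨rfl, rfl⟩ <;> omega
    have hP' : P' = -14 - P := by omega
    subst hP'
    have h4 : (P + 35) * (P - 21) = 0 := by linarith [show (P + 35) * (P - 21) = -(P * (-14 - P)) - 735 by ring]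
    rcases mul_eq_zero.1 h4 with h5 | h5
    · exact Or.inl ⟨by omega, by omega⟩
    · exact Or.inr ⟨by omega, by omega⟩

/-- Signed degrees outside the range of the check are impossible. -/
theorem range_le {g : ℕ} {A B C : ℤ} (hA : A % 8 = 5) (hB : B % 8 = 5) (hC : C = A + B - 1)
    (hAB : |A| ≤ |B|)
    (hX : (g : ℚ) * ((1 + 1 / (C : ℚ)) - (25 / (A : ℚ) + 25 / (B : ℚ))) = 86400)
    (hsq : (A * A + B * B + C * C : ℤ) < (g : ℤ)) : -699 ≤ B ∧ B ≤ 701 := by
  by_contra hcon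
  have hg : (0 : ℚ) < g := by
    rcases Nat.eq_zero_or_pos g with h | h
    · rw [h] at hX; norm_num at hX
    · exact_mod_cast h
  set X : ℚ := (1 + 1 / (C : ℚ)) - (25 / (A : ℚ) + 25 / (B : ℚ)) with hXdef
  have hXpos : 0 < X := by
    by_contra h
    nlinarith
  have hsqQ : ((A : ℚ) * A + B * B + C * C) < g := by exact_mod_cast hsq
  have key : ∀ L : ℚ, 0 < L → L ≤ X → (g : ℚ) * L ≤ 86400 := fun L _ h2 => by
    rw [← hX]; exact mul_le_mul_of_nonneg_left h2 hg.le
  rcases (show B ≤ -700 ∨ 702 ≤ B by omega) with hb | hb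
  · have hBq : (B : ℚ) ≤ -700 := by exact_mod_cast hb
    have b1 : (25 : ℚ) / B ≤ 0 := div_nonpos_of_nonneg_of_nonpos (by norm_num) (by linarith)
    have b2 : -(1 / 28 : ℚ) ≤ 25 / B := by
      rw [le_div_iff_of_neg (by linarith)]; linarith
    have b3 : (490000 : ℚ) ≤ B * B := by nlinarith
    have hc : C ≤ -7 ∨ 1 ≤ C := by omega
    have c1 : -(1 / 7 : ℚ) ≤ 1 / C := by
      rcases hc with h | h
      · have : (C : ℚ) ≤ -7 := by exact_mod_cast h
        rw [le_div_iff_of_neg (by linarith)]; linarith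
      · have : (1 : ℚ) ≤ C := by exact_mod_cast h
        exact le_trans (by norm_num) (div_nonneg zero_le_one (by linarith))
    have hA2 : 0 ≤ (A : ℚ) * A := mul_self_nonneg _
    have hC2 : 0 ≤ (C : ℚ) * C := mul_self_nonneg _
    rcases (show A ≤ -3 ∨ (5 ≤ A ∧ A ≤ 21) ∨ (29 ≤ A ∧ A ≤ 99) ∨ 100 ≤ A by omega) with
      ha | ⟨ha, ha'⟩ | ⟨ha, ha'⟩ | ha
    · have hAq : (A : ℚ) ≤ -3 := by exact_mod_cast ha
      have a1 : (25 : ℚ) / A ≤ 0 := div_nonpos_of_nonneg_of_nonpos (by norm_num) (by linarith)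
      have := key (1 / 2) (by norm_num) (by rw [hXdef]; linarith)
      linarith
    · have hAq : (0 : ℚ) < A ∧ (A : ℚ) ≤ 21 := ⟨by exact_mod_cast (show 0 < A by omega), by exact_mod_cast ha'⟩
      have a1 : (25 / 21 : ℚ) ≤ 25 / A := div_le_div_of_nonneg_left (by norm_num) hAq.1 hAq.2
      have c2 : (1 : ℚ) / C ≤ 0 := div_nonpos_of_nonneg_of_nonpos zero_le_one
        (by exact_mod_cast (show C ≤ 0 by omega))
      rw [hXdef] at hXpos; linarith
    · have hAq : (29 : ℚ) ≤ A := by exact_mod_cast ha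
      have a1 : (25 : ℚ) / A ≤ 25 / 29 := div_le_div_of_nonneg_left (by norm_num) (by norm_num) hAq
      have hCq : (C : ℚ) ≤ -600 := by exact_mod_cast (show C ≤ -600 by omega)
      have c2 : -(1 / 600 : ℚ) ≤ 1 / C := by
        rw [le_div_iff_of_neg (by linarith)]; linarith
      have := key (1 / 8) (by norm_num) (by rw [hXdef]; linarith)
      nlinarith
    · have hAq : (100 : ℚ) ≤ A := by exact_mod_cast ha
      have a1 : (25 : ℚ) / A ≤ 25 / 100 := div_le_div_of_nonneg_left (by norm_num) (by norm_num) hAq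
      have := key (1 / 2) (by norm_num) (by rw [hXdef]; linarith)
      linarith
  · have hBq : (702 : ℚ) ≤ B := by exact_mod_cast hb
    have b1 : (25 : ℚ) / B ≤ 25 / 702 := div_le_div_of_nonneg_left (by norm_num) (by norm_num) hBq
    have b2 : (0 : ℚ) ≤ 25 / B := div_nonneg (by norm_num) (by linarith)
    have b3 : (492804 : ℚ) ≤ B * B := by nlinarith
    have hA2 : 0 ≤ (A : ℚ) * A := mul_self_nonneg _
    have hC2 : 0 ≤ (C : ℚ) * C := mul_self_nonneg _
    rcases (show A ≤ -3 ∨ (5 ≤ A ∧ A ≤ 21) ∨ 29 ≤ A by omega) with ha | ⟨ha, ha'⟩ | ha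
    · have hAq : (A : ℚ) ≤ -3 := by exact_mod_cast ha
      have a1 : (25 : ℚ) / A ≤ 0 := div_nonpos_of_nonneg_of_nonpos (by norm_num) (by linarith)
      have hc : C ≤ -7 ∨ 1 ≤ C := by omega
      have c1 : -(1 / 7 : ℚ) ≤ 1 / C := by
        rcases hc with h | h
        · have : (C : ℚ) ≤ -7 := by exact_mod_cast h
          rw [le_div_iff_of_neg (by linarith)]; linarith
        · have : (1 : ℚ) ≤ C := by exact_mod_cast h
          exact le_trans (by norm_num) (div_nonneg zero_le_one (by linarith))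
      have := key (1 / 2) (by norm_num) (by rw [hXdef]; linarith)
      linarith
    · have hAq : (0 : ℚ) < A ∧ (A : ℚ) ≤ 21 := ⟨by exact_mod_cast (show 0 < A by omega), by exact_mod_cast ha'⟩
      have a1 : (25 / 21 : ℚ) ≤ 25 / A := div_le_div_of_nonneg_left (by norm_num) hAq.1 hAq.2
      have hCq : (700 : ℚ) ≤ C := by exact_mod_cast (show 700 ≤ C by omega)
      have c2 : (1 : ℚ) / C ≤ 1 / 700 := div_le_div_of_nonneg_left (by norm_num) (by norm_num) hCq
      rw [hXdef] at hXpos; linarith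
    · have hAq : (29 : ℚ) ≤ A := by exact_mod_cast ha
      have a1 : (25 : ℚ) / A ≤ 25 / 29 := div_le_div_of_nonneg_left (by norm_num) (by norm_num) hAq
      have hCq : (730 : ℚ) ≤ C := by exact_mod_cast (show 730 ≤ C by omega)
      have c1 : (0 : ℚ) ≤ 1 / C := div_nonneg zero_le_one (by linarith)
      have := key (1 / 10) (by norm_num) (by rw [hXdef]; linarith)
      nlinarith

theorem eight_solution {g : ℕ} {A B C P P' : ℤ} (hA : A % 8 = 5) (hB : B % 8 = 5)
    (hP : P % 8 = 5) (hP' : P' % 8 = 5) (hC : C = A + B - 1) (hPs : P + P' = A + B)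
    (hX : (g : ℚ) * ((1 + 1 / (C : ℚ)) - (25 / (A : ℚ) + 25 / (B : ℚ))) = 86400)
    (hR : 2 * (9 / (P : ℚ) + 9 / (P' : ℚ)) =
      (1 + 1 / (C : ℚ)) + (25 / (A : ℚ) + 25 / (B : ℚ)) - 14 * (14400 / (g : ℚ)))
    (h120 : 120 ∣ g) (hodd : (g / 8) % 2 = 1) (dA : A ∣ (g : ℤ)) (dB : B ∣ (g : ℤ))
    (dC : C ∣ (g : ℤ)) (hsq : A * A + B * B + C * C < (g : ℤ)) :
    g = 175560 ∨ (g = 189000 ∧ ((A = -35 ∧ B = 21) ∨ (A = 21 ∧ B = -35)) ∧
      ((P = -35 ∧ P' = 21) ∨ (P = 21 ∧ P' = -35))) := by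
  have hg0 : g ≠ 0 := fun h => by rw [h] at hX; norm_num at hX
  have hA0 : (A : ℚ) ≠ 0 := by exact_mod_cast (show A ≠ 0 by omega)
  have hB0 : (B : ℚ) ≠ 0 := by exact_mod_cast (show B ≠ 0 by omega)
  have hC0 : (C : ℚ) ≠ 0 := by exact_mod_cast (show C ≠ 0 by omega)
  have hP0 : (P : ℚ) ≠ 0 := by exact_mod_cast (show P ≠ 0 by omega)
  have hP0' : (P' : ℚ) ≠ 0 := by exact_mod_cast (show P' ≠ 0 by omega)
  have hgq : (g : ℚ) ≠ 0 := by exact_mod_cast hg0
  have hgi : (g : ℤ) * (A * B * C + A * B - 25 * C * (A + B)) = 86400 * (A * B) * C := by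
    have h := hX
    field_simp at h
    have h' : (g : ℚ) * (A * B * C + A * B - 25 * C * (A + B)) = 86400 * (A * B) * C := by
      linear_combination h
    exact_mod_cast h'
  have hqi : P * P' * (250 * C - 4 * (A * B)) = 54 * (A * B) * C := by
    have hK : 14 * (14400 / (g : ℚ)) =
        7 / 3 * ((1 + 1 / (C : ℚ)) - (25 / (A : ℚ) + 25 / (B : ℚ))) := by
      field_simp at hX ⊢
      linear_combination (-7 : ℚ) * hX
    rw [hK] at hR
    have hs : ((A : ℚ) + B) ≠ 0 := by exact_mod_cast (show A + B ≠ 0 by omega)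
    have hPsq : (P : ℚ) + P' = A + B := by exact_mod_cast hPs
    have hCq : (C : ℚ) = A + B - 1 := by rw [hC]; push_cast; ring
    have e1 : (1 + 1 / (C : ℚ)) = (A + B) / C := by field_simp; rw [hCq]; ring
    have e2 : 25 / (A : ℚ) + 25 / (B : ℚ) = 25 * (A + B) / (A * B) := by field_simp; ring
    have e3 : 9 / (P : ℚ) + 9 / (P' : ℚ) = 9 * (A + B) / (P * P') := by
      rw [← hPsq]; field_simp; ring
    rw [e1, e2, e3] at hR
    field_simp at hR
    have h' : (P : ℚ) * P' * (250 * C - 4 * (A * B)) = 54 * (A * B) * C := by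
      linear_combination -hR
    exact_mod_cast h'
  rcases le_total |A| |B| with hab | hab
  · obtain ⟨hb1, hb2⟩ := range_le hA hB hC hab hX hsq
    have ha1 : -701 ≤ A ∧ A ≤ 701 := abs_le.1 (hab.trans (abs_le.2 ⟨by omega, by omega⟩))
    subst hC
    exact chk_spec ((A + 699) / 8).toNat ((B + 699) / 8).toNat (by omega) (by omega) (by omega)
      (by omega) hgi hPs hqi (by exact_mod_cast mul_ne_zero (mul_ne_zero hA0 hB0) hC0)
      (by omega) (Int.natCast_dvd_natCast.2 h120) (by omega) dA dB dC hsq |>.imp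
        (fun h => by exact_mod_cast h) (fun h => ⟨by exact_mod_cast h.1, h.2⟩)
  · obtain ⟨ha1, ha2⟩ := range_le hB hA (by omega : C = B + A - 1) hab
      (by rw [add_comm (25 / (B : ℚ))]; exact hX) (by linarith)
    have hb1 : -701 ≤ B ∧ B ≤ 701 := abs_le.1 (hab.trans (abs_le.2 ⟨by omega, by omega⟩))
    subst hC
    exact chk_spec ((A + 699) / 8).toNat ((B + 699) / 8).toNat (by omega) (by omega) (by omega)
      (by omega) hgi hPs hqi (by exact_mod_cast mul_ne_zero (mul_ne_zero hA0 hB0) hC0)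
      (by omega) (Int.natCast_dvd_natCast.2 h120) (by omega) dA dB dC hsq |>.imp
        (fun h => by exact_mod_cast h) (fun h => ⟨by exact_mod_cast h.1, h.2⟩)

end H16.J1
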