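import Mathlib

/-!
The diophantine problem for the degrees in Janko's order calculation (four odd rows).
-/

set_option autoImplicit false

namespace H16.J1

theorem div_bound {c x : ℚ} {N : ℚ} (hc : 0 ≤ c) (hN : 0 < N) (h : x ≤ -N ∨ N ≤ x) :
    -(c / N) ≤ c / x ∧ c / x ≤ c / N := by
  rcases h with h | h
  · have hx : x < 0 := by linarith
    have h0 : c / x ≤ 0 := div_nonpos_of_nonneg_of_nonpos hc hx.le
    refine ⟨?_, h0.trans (div_nonneg hc hN.le)⟩
    rw [← neg_div_neg_eq c x, neg_div, neg_le_neg_iff]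
    exact div_le_div_of_nonneg_left hc hN (by linarith)
  · exact ⟨le_trans (neg_nonpos.2 (div_nonneg hc hN.le)) (div_nonneg hc (by linarith)),
      div_le_div_of_nonneg_left hc hN h⟩

/-- The check for `P ≠ Q`: the quadratic in `A` has no root, except for one value of `E`. -/
def chkI (i : ℕ) : Bool :=
  let E : ℤ := 8 * (i : ℤ) - 3002
  let w := E * (E + 1)
  let k := 4 * w - 216 * (E + 1) + 50 * E
  let d := (k * E - 270 * w) * (k * E - 270 * w) - 4 * k * (-250 * E * w)
  decide (E = 14) || (decide (k ≠ 0) && (decide (d < 0) || decide (d.toNat.sqrt * d.toNat.sqrt ≠ d.toNat)))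

theorem chkI_all : ((List.range 751).all chkI) = true := by decide +kernel

/-- The check for `P = Q`: the quadratic in `P` has no root. -/
def chkII (i : ℕ) : Bool :=
  let R : ℤ := 8 * (i : ℤ) - 998
  let A := 1 - 2 * R
  let k := 4 * A * R - 250 * R - 56 * A
  let b := k * (R - 1) - 162 * A * R
  let d := b * b - 4 * k * (54 * A * R * (R - 1))
  decide (k ≠ 0) && (decide (d < 0) || decide (d.toNat.sqrt * d.toNat.sqrt ≠ d.toNat))

theorem chkII_all : ((List.range 251).all chkII) = true := by decide +kernel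

theorem no_square {d z : ℤ} (h : d = z * z) :
    ¬(d < 0) ∧ d.toNat.sqrt * d.toNat.sqrt = d.toNat := by
  subst h
  refine ⟨not_lt.2 (mul_self_nonneg z), ?_⟩
  rw [← Int.natAbs_mul_self, Int.toNat_natCast, Nat.sqrt_eq]

theorem caseI {A E : ℤ} (hA : A % 8 = 5) (hE : E % 8 = 6)
    (h : 250 / (A : ℚ) + 216 / (E : ℚ) - 50 / ((E : ℚ) + 1) + 20 / ((E : ℚ) + A) = 4) :
    A = -35 ∧ E = 14 := by
  have hA0 : (A : ℚ) ≠ 0 := by exact_mod_cast (show A ≠ 0 by omega)
  have hE0 : (E : ℚ) ≠ 0 := by exact_mod_cast (show E ≠ 0 by omega)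
  have hE1 : (E : ℚ) + 1 ≠ 0 := by exact_mod_cast (show E + 1 ≠ 0 by omega)
  have hEA : (E : ℚ) + A ≠ 0 := by exact_mod_cast (show E + A ≠ 0 by omega)
  by_cases hb : -3002 ≤ E ∧ E ≤ 2998
  · have hc := chkI_all
    rw [List.all_eq_true] at hc
    have hc := hc ((E + 3002) / 8).toNat (List.mem_range.2 (by omega))
    unfold chkI at hc
    simp only [show 8 * ((((E + 3002) / 8).toNat : ℕ) : ℤ) - 3002 = E by omega, Bool.or_eq_true,
      Bool.and_eq_true, decide_eq_true_eq] at hc
    set w := E * (E + 1) with hw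
    set k := 4 * w - 216 * (E + 1) + 50 * E with hk
    have hq : k * A * A + (k * E - 270 * w) * A + (-250 * E * w) = 0 := by
      have h' := h
      field_simp at h'
      have h'' : (k : ℚ) * A * A + ((k : ℚ) * E - 270 * w) * A + (-250 * E * w) = 0 := by
        rw [hk, hw]; push_cast
        linear_combination -h'
      exact_mod_cast h''
    rcases hc with hE14 | ⟨hk0, hd⟩
    · have hk' : k = -1700 := by rw [hk, hw, hE14]; norm_num
      have hw' : w = 210 := by rw [hw, hE14]; norm_num
      rw [hk', hw', hE14] at hq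
      refine ⟨?_, hE14⟩
      have h4 : (A + 35) * (17 * A + 210) = 0 := by linarith
      rcases mul_eq_zero.1 h4 with h5 | h5 <;> omega
    · exfalso
      obtain ⟨h1, h2⟩ := no_square (d := (k * E - 270 * w) * (k * E - 270 * w) -
        4 * k * (-250 * E * w)) (z := 2 * k * A + (k * E - 270 * w))
        (by linear_combination -4 * k * hq)
      rcases hd with h | h
      · exact h1 h
      · exact h h2
  · exfalso
    have hEq : (E : ℚ) ≤ -3001 ∨ (3001 : ℚ) ≤ E := by
      rcases (show E ≤ -3001 ∨ 3001 ≤ E by omega) with h | h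
      · exact Or.inl (by exact_mod_cast h)
      · exact Or.inr (by exact_mod_cast h)
    have e1 := div_bound (c := 216) (N := 3001) (by norm_num) (by norm_num) hEq
    have e2 := div_bound (c := 50) (N := 3000) (x := (E : ℚ) + 1) (by norm_num) (by norm_num)
      (hEq.imp (fun h => by linarith) fun h => by linarith)
    rcases (show (-2500 ≤ A ∧ A ≤ 2500) ∨ A < -2500 ∨ 2500 < A by omega) with ⟨ha, ha'⟩ | ha
    · have haq : (-2500 : ℚ) ≤ A ∧ (A : ℚ) ≤ 2500 :=
        ⟨by exact_mod_cast ha, by exact_mod_cast ha'⟩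
      have e3 := div_bound (c := 20) (N := 500) (x := (E : ℚ) + A) (by norm_num) (by norm_num)
        (hEq.imp (fun h => by linarith) fun h => by linarith)
      rcases (show A ≤ -3 ∨ (5 ≤ A ∧ A ≤ 53) ∨ A = 61 ∨ 69 ≤ A by omega) with
        h' | ⟨h', h''⟩ | h' | h'
      · have : (A : ℚ) ≤ -3 := by exact_mod_cast h'
        have : (250 : ℚ) / A ≤ 0 := div_nonpos_of_nonneg_of_nonpos (by norm_num) (by linarith)
        linarith
      · have : (0 : ℚ) < A := by exact_mod_cast (show 0 < A by omega)
        have := div_le_div_of_nonneg_left (show (0 : ℚ) ≤ 250 by norm_num) this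
          (show (A : ℚ) ≤ 53 by exact_mod_cast h'')
        linarith
      · subst h'
        have e4 := div_bound (c := 20) (N := 2900) (x := (E : ℚ) + ((61 : ℤ) : ℚ)) (by norm_num)
          (by norm_num) (hEq.imp (fun h => by push_cast; linarith) fun h => by push_cast; linarith)
        push_cast at h e4
        linarith
      · have := div_le_div_of_nonneg_left (show (0 : ℚ) ≤ 250 by norm_num)
          (show (0 : ℚ) < 69 by norm_num) (show (69 : ℚ) ≤ A by exact_mod_cast h')
        linarith
    · have e4 := div_bound (c := 250) (N := 2500) (x := (A : ℚ)) (by norm_num) (by norm_num)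
        (ha.imp (fun h => by exact_mod_cast h.le) fun h => by exact_mod_cast h.le)
      rcases (show E + A ≤ -5 ∨ E + A = 3 ∨ 11 ≤ E + A by omega) with h' | h' | h'
      · have : (E : ℚ) + A ≤ -5 := by exact_mod_cast h'
        have : (20 : ℚ) / ((E : ℚ) + A) ≤ 0 :=
          div_nonpos_of_nonneg_of_nonpos (by norm_num) (by linarith)
        linarith
      · have : (E : ℚ) + A = 3 := by exact_mod_cast h'
        rw [this] at h
        linarith
      · have := div_le_div_of_nonneg_left (show (0 : ℚ) ≤ 20 by norm_num)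
          (show (0 : ℚ) < 11 by norm_num) (show (11 : ℚ) ≤ (E : ℚ) + A by exact_mod_cast h')
        linarith

theorem caseII {R P : ℤ} (hR : R % 8 = 2) (hP : P % 8 = 5)
    (h : 250 / ((1 : ℚ) - 2 * R) + 56 / (R : ℚ) - 54 / (P : ℚ) + 216 / ((P : ℚ) + R - 1) = 4) :
    False := by
  have hA0 : (1 : ℚ) - 2 * R ≠ 0 := by exact_mod_cast (show (1 : ℤ) - 2 * R ≠ 0 by omega)
  have hR0 : (R : ℚ) ≠ 0 := by exact_mod_cast (show R ≠ 0 by omega)
  have hP0 : (P : ℚ) ≠ 0 := by exact_mod_cast (show P ≠ 0 by omega)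
  have hE0 : (P : ℚ) + R - 1 ≠ 0 := by exact_mod_cast (show P + R - 1 ≠ 0 by omega)
  by_cases hb : -998 ≤ R ∧ R ≤ 1002
  · have hc := chkII_all
    rw [List.all_eq_true] at hc
    have hc := hc ((R + 998) / 8).toNat (List.mem_range.2 (by omega))
    unfold chkII at hc
    simp only [show 8 * ((((R + 998) / 8).toNat : ℕ) : ℤ) - 998 = R by omega, Bool.or_eq_true,
      Bool.and_eq_true, decide_eq_true_eq] at hc
    set A := 1 - 2 * R with hA
    set k := 4 * A * R - 250 * R - 56 * A with hk
    set b := k * (R - 1) - 162 * A * R with hbdef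
    have hq : k * P * P + b * P + 54 * A * R * (R - 1) = 0 := by
      have h' := h
      field_simp at h'
      have h'' : (k : ℚ) * P * P + (b : ℚ) * P + 54 * A * R * ((R : ℚ) - 1) = 0 := by
        rw [hbdef, hk, hA]; push_cast
        linear_combination -h'
      exact_mod_cast h''
    obtain ⟨hk0, hd⟩ := hc
    obtain ⟨h1, h2⟩ := no_square (d := b * b - 4 * k * (54 * A * R * (R - 1)))
      (z := 2 * k * P + b) (by linear_combination -4 * k * hq)
    rcases hd with h | h
    · exact h1 h
    · exact h h2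
  · have hRq : (R : ℚ) ≤ -999 ∨ (999 : ℚ) ≤ R := by
      rcases (show R ≤ -999 ∨ 999 ≤ R by omega) with h | h
      · exact Or.inl (by exact_mod_cast h)
      · exact Or.inr (by exact_mod_cast h)
    have e1 := div_bound (c := 56) (N := 999) (by norm_num) (by norm_num) hRq
    have e2 := div_bound (c := 250) (N := 1997) (x := (1 : ℚ) - 2 * R) (by norm_num) (by norm_num)
      (by rcases hRq with h | h
          · exact Or.inr (by linarith)
          · exact Or.inl (by linarith))
    rcases (show (-499 < P ∧ P < 499) ∨ P ≤ -499 ∨ 499 ≤ P by omega) with ⟨hp, hp'⟩ | hp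
    · have hpq : (-499 : ℚ) < P ∧ (P : ℚ) < 499 :=
        ⟨by exact_mod_cast hp, by exact_mod_cast hp'⟩
      have e3 := div_bound (c := 216) (N := 499) (x := (P : ℚ) + R - 1) (by norm_num) (by norm_num)
        (hRq.imp (fun h => by linarith) fun h => by linarith)
      rcases (show P ≤ -19 ∨ P = -11 ∨ P = -3 ∨ 0 < P by omega) with h' | h' | h' | h'
      · have := div_bound (c := 54) (N := 19) (x := (P : ℚ)) (by norm_num) (by norm_num)
          (Or.inl (by exact_mod_cast h'))
        linarith
      · subst h'; push_cast at h e3; linarith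
      · subst h'; push_cast at h e3; linarith
      · have : (0 : ℚ) ≤ 54 / (P : ℚ) := div_nonneg (by norm_num) (by exact_mod_cast h'.le)
        linarith
    · have e3 := div_bound (c := 54) (N := 499) (x := (P : ℚ)) (by norm_num) (by norm_num)
        (hp.imp (fun h => by exact_mod_cast h) fun h => by exact_mod_cast h)
      generalize hEdef : P + R - 1 = E
      have hEq : (E : ℚ) = (P : ℚ) + R - 1 := by rw [← hEdef]; push_cast; ring
      rw [← hEq] at h hE0
      rcases (show E ≤ -2 ∨ (6 ≤ E ∧ E ≤ 46) ∨ E = 54 ∨ 62 ≤ E by omega) with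
        h' | ⟨h', h''⟩ | h' | h'
      · have : (216 : ℚ) / E ≤ 0 := div_nonpos_of_nonneg_of_nonpos (by norm_num)
          (by exact_mod_cast (show E ≤ 0 by omega))
        linarith
      · have := div_le_div_of_nonneg_left (show (0 : ℚ) ≤ 216 by norm_num)
          (show (0 : ℚ) < E by exact_mod_cast (show 0 < E by omega))
          (show (E : ℚ) ≤ 46 by exact_mod_cast h'')
        linarith
      · have hP' : (P : ℚ) = 55 - R := by exact_mod_cast (show P = 55 - R by omega)
        subst h'
        rw [hP'] at h hP0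
        push_cast at h
        field_simp at h
        rcases hRq with h1 | h1 <;> nlinarith
      · have := div_le_div_of_nonneg_left (show (0 : ℚ) ≤ 216 by norm_num)
          (show (0 : ℚ) < 62 by norm_num) (show (62 : ℚ) ≤ E by exact_mod_cast h')
        linarith

/-- The four-row configuration is impossible. -/
theorem four_solution {g : ℕ} {A P Q E R S : ℤ} (hA : A % 8 = 5) (hP : P % 8 = 5) (hQ : Q % 8 = 5)
    (hE : E % 8 = 6) (hR : R % 8 = 2) (hS : S % 8 = 2)
    (d1 : 1 + A - P - Q + 2 * E = 0) (d2 : -1 + A - P + Q + 2 * R = 0)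
    (d3 : -1 + A + P - Q + 2 * S = 0)
    (s1 : 1 + 25 / (A : ℚ) - 9 / (P : ℚ) - 9 / (Q : ℚ) + 72 / (E : ℚ) = 14 * (14400 / (g : ℚ)))
    (s2 : -1 + 25 / (A : ℚ) - 9 / (P : ℚ) + 9 / (Q : ℚ) + 8 / (R : ℚ) = -6 * (14400 / (g : ℚ)))
    (s3 : -1 + 25 / (A : ℚ) + 9 / (P : ℚ) - 9 / (Q : ℚ) + 8 / (S : ℚ) = -6 * (14400 / (g : ℚ)))
    (iR : R ≤ -14 ∨ 0 < R) (iS : S ≤ -14 ∨ 0 < S) : False := by
  have hA0 : (A : ℚ) ≠ 0 := by exact_mod_cast (show A ≠ 0 by omega)
  have hP0 : (P : ℚ) ≠ 0 := by exact_mod_cast (show P ≠ 0 by omega)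
  have hQ0 : (Q : ℚ) ≠ 0 := by exact_mod_cast (show Q ≠ 0 by omega)
  have hE0 : (E : ℚ) ≠ 0 := by exact_mod_cast (show E ≠ 0 by omega)
  have hR0 : (R : ℚ) ≠ 0 := by exact_mod_cast (show R ≠ 0 by omega)
  have hS0 : (S : ℚ) ≠ 0 := by exact_mod_cast (show S ≠ 0 by omega)
  have hb : R + S = 1 - A := by omega
  have hd : P - Q = R - S := by omega
  have hdq : (P : ℚ) - Q = R - S := by exact_mod_cast hd
  have key : 4 = 250 / (A : ℚ) - 27 * ((P : ℚ) + Q) / (P * Q) + 216 / E +
      28 * ((R : ℚ) + S) / (R * S) := by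
    have h1 : 27 * ((P : ℚ) + Q) / (P * Q) = 27 / P + 27 / Q := by field_simp; ring
    have h2 : 28 * ((R : ℚ) + S) / (R * S) = 28 / R + 28 / S := by field_simp; ring
    rw [h1, h2]
    linear_combination (-3 : ℚ) * s1 - (7 / 2 : ℚ) * s2 - (7 / 2 : ℚ) * s3
  have hdiff : ((P : ℚ) - Q) * (9 * (R * S) - 4 * (P * Q)) = 0 := by
    have h : -18 / (P : ℚ) + 18 / Q + 8 / R - 8 / S = 0 := by linear_combination s2 - s3
    have h' : 18 * ((P : ℚ) - Q) * (R * S) - 8 * ((R : ℚ) - S) * (P * Q) = 0 := by
      field_simp at h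
      linear_combination h
    rw [← hdq] at h'
    linear_combination h' / 2
  rcases mul_eq_zero.1 hdiff with h | h
  · have hPQ : P = Q := by exact_mod_cast (sub_eq_zero.1 h)
    have hRS : R = S := by omega
    subst hPQ hRS
    have hA' : (A : ℚ) = 1 - 2 * R := by exact_mod_cast (show A = 1 - 2 * R by omega)
    have hE' : (E : ℚ) = P + R - 1 := by exact_mod_cast (show E = P + R - 1 by omega)
    refine caseII hR hP ?_
    rw [← hA', ← hE', key]
    field_simp
    ring
  · have h49 : 9 * (R * S) = 4 * (P * Q) := by exact_mod_cast (sub_eq_zero.1 h)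
    have h5 : 5 * (R * S) = (P + Q) * (P + Q) - (R + S) * (R + S) := by
      have : (P + Q) * (P + Q) - 4 * (P * Q) = (P - Q) * (P - Q) := by ring
      rw [hd] at this
      linear_combination h49 - this
    have hu1 : P + Q + (R + S) = 2 * (E + 1) := by omega
    have hu2 : P + Q - (R + S) = 2 * (E + A) := by omega
    have h5q : 5 * ((R : ℚ) * S) = 4 * ((E : ℚ) + 1) * (E + A) := by
      exact_mod_cast (show 5 * (R * S) = 4 * (E + 1) * (E + A) by
        rw [h5, show (P + Q) * (P + Q) - (R + S) * (R + S) =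
          (P + Q + (R + S)) * (P + Q - (R + S)) by ring, hu1, hu2]; ring)
    have hE1 : (E : ℚ) + 1 ≠ 0 := by exact_mod_cast (show E + 1 ≠ 0 by omega)
    have hEA : (E : ℚ) + A ≠ 0 := by exact_mod_cast (show E + A ≠ 0 by omega)
    have hu1q : (P : ℚ) + Q + (R + S) = 2 * (E + 1) := by exact_mod_cast hu1
    have hu2q : (P : ℚ) + Q - (R + S) = 2 * (E + A) := by exact_mod_cast hu2
    have hI : A = -35 ∧ E = 14 := by
      refine caseI hA hE ?_
      have e1 : 27 * ((P : ℚ) + Q) / (P * Q) = 15 * ((P : ℚ) + Q) / ((E + 1) * (E + A)) := by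
        rw [show (P : ℚ) * Q = 9 / 4 * (R * S) by linear_combination -h / 4,
          show (R : ℚ) * S = 4 / 5 * ((E + 1) * (E + A)) by linear_combination h5q / 5]
        field_simp
        ring
      have e2 : 28 * ((R : ℚ) + S) / (R * S) = 35 * ((R : ℚ) + S) / ((E + 1) * (E + A)) := by
        rw [show (R : ℚ) * S = 4 / 5 * ((E + 1) * (E + A)) by linear_combination h5q / 5]
        field_simp
        ring
      rw [e1, e2, show (P : ℚ) + Q = (E + 1) + (E + A) by linarith,
        show (R : ℚ) + S = (E + 1) - (E + A) by linarith] at key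
      rw [key]
      field_simp
      ring
    obtain ⟨rfl, rfl⟩ := hI
    have h6 : R * S = -252 := by
      have : P + Q = -6 := by omega
      rw [this, hb] at h5
      omega
    have hS' : S = 36 - R := by omega
    subst hS'
    have h7 : (R + 6) * (R - 42) = 0 := by linear_combination -h6
    rcases mul_eq_zero.1 h7 with h8 | h8 <;> omega

end H16.J1
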