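import Mathlib
import Cfsg.Agent.H12.Integral

/-!
Sums of tenth and sixth roots of unity.
-/

set_option autoImplicit false

namespace H16.J1

open scoped ComplexConjugate

theorem int_of_two_mul {z : ℂ} (hz : IsIntegral ℤ z) (n : ℤ) (h : 2 * z = n) :
    ∃ k : ℤ, z = k ∧ n = 2 * k := by
  have hq : z = (((n : ℚ) / 2 : ℚ) : ℂ) := by push_cast; linear_combination h / 2
  obtain ⟨k, hk⟩ := H12.exists_int_of_isIntegral_rat (hq ▸ hz)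
  refine ⟨k, by rw [hq, ← hk]; norm_cast, ?_⟩
  have : ((n : ℚ)) = 2 * k := by rw [hk]; ring
  exact_mod_cast this

theorem isIntegral_root {ω : ℂ} {n : ℕ} (hn : 0 < n) (h : ω ^ n = 1) : IsIntegral ℤ ω :=
  IsIntegral.of_pow hn (h ▸ isIntegral_one)

theorem ten_root {ω : ℂ} (h : ω ^ 10 = 1) :
    (∃ a : ℤ, ω + ω ^ 3 + ω ^ 5 + ω ^ 7 + ω ^ 9 = 5 * a) ∧ (∃ a : ℤ, ω ^ 5 = a) ∧
    ∃ b : ℤ, ω + ω ^ 9 - ω ^ 3 - ω ^ 7 = ((Real.sqrt 5 : ℝ) : ℂ) * b := by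
  have h5 : ω ^ 5 = 1 ∨ ω ^ 5 = -1 := mul_self_eq_one_iff.1 (by rw [← pow_add]; exact h)
  have h5' : ∃ a : ℤ, ω ^ 5 = a := by
    rcases h5 with h5 | h5
    · exact ⟨1, by simpa using h5⟩
    · exact ⟨-1, by simpa using h5⟩
  refine ⟨?_, h5', ?_⟩
  all_goals by_cases h2 : ω ^ 2 = 1
  · obtain ⟨a, ha⟩ := h5'
    have hω : ω = a := by
      rw [← ha, show ω ^ 5 = (ω ^ 2) ^ 2 * ω by ring, h2]; ring
    refine ⟨a, ?_⟩
    rw [show ω ^ 3 = ω ^ 2 * ω by ring, show ω ^ 5 = (ω ^ 2) ^ 2 * ω by ring,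
      show ω ^ 7 = (ω ^ 2) ^ 3 * ω by ring, show ω ^ 9 = (ω ^ 2) ^ 4 * ω by ring, h2, hω]
    ring
  · refine ⟨0, ?_⟩
    have : (ω ^ 2 - 1) * (ω + ω ^ 3 + ω ^ 5 + ω ^ 7 + ω ^ 9) = 0 := by linear_combination ω * h
    simpa using (mul_eq_zero.1 this).resolve_left (sub_ne_zero.2 h2)
  · refine ⟨0, ?_⟩
    rw [show ω ^ 3 = ω ^ 2 * ω by ring,
      show ω ^ 7 = (ω ^ 2) ^ 3 * ω by ring, show ω ^ 9 = (ω ^ 2) ^ 4 * ω by ring, h2]
    simp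
  · have hq : ω ^ 2 + ω ^ 4 + ω ^ 6 + ω ^ 8 = -1 := by
      have : (ω ^ 2 - 1) * (ω ^ 2 + ω ^ 4 + ω ^ 6 + ω ^ 8 + 1) = 0 := by linear_combination h
      linear_combination (mul_eq_zero.1 this).resolve_left (sub_ne_zero.2 h2)
    have hs : ((Real.sqrt 5 : ℝ) : ℂ) * ((Real.sqrt 5 : ℝ) : ℂ) = 5 := by
      rw [← Complex.ofReal_mul, Real.mul_self_sqrt (by norm_num)]; norm_num
    have hsq : (ω + ω ^ 9 - ω ^ 3 - ω ^ 7) * (ω + ω ^ 9 - ω ^ 3 - ω ^ 7) =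
        ((Real.sqrt 5 : ℝ) : ℂ) * ((Real.sqrt 5 : ℝ) : ℂ) := by
      rw [hs]
      linear_combination (ω ^ 8 + ω ^ 4 + 4 - 2 * ω ^ 6 - 2 * ω ^ 2) * h - hq
    rcases mul_self_eq_mul_self_iff.1 hsq with h' | h'
    · exact ⟨1, by simpa using h'⟩
    · exact ⟨-1, by simpa using h'⟩

theorem six_root {ω : ℂ} (h : ω ^ 6 = 1) :
    (∃ a : ℤ, ω + ω ^ 3 + ω ^ 5 = 3 * a) ∧ (∃ a : ℤ, 1 + ω ^ 2 + ω ^ 4 = 3 * a) ∧
      IsIntegral ℤ ((ω + ω ^ 4) / 2) := by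
  have h3 : ω ^ 3 = 1 ∨ ω ^ 3 = -1 := mul_self_eq_one_iff.1 (by rw [← pow_add]; exact h)
  refine ⟨?_, ?_, ?_⟩
  · by_cases h2 : ω ^ 2 = 1
    · have : ω = 1 ∨ ω = -1 := mul_self_eq_one_iff.1 (by rw [← pow_two]; exact h2)
      rcases this with rfl | rfl
      · exact ⟨1, by norm_num⟩
      · exact ⟨-1, by norm_num⟩
    · refine ⟨0, ?_⟩
      have : (ω ^ 2 - 1) * (ω + ω ^ 3 + ω ^ 5) = 0 := by linear_combination ω * h
      simpa using (mul_eq_zero.1 this).resolve_left (sub_ne_zero.2 h2)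
  · by_cases h2 : ω ^ 2 = 1
    · exact ⟨1, by rw [show ω ^ 4 = (ω ^ 2) ^ 2 by ring, h2]; norm_num⟩
    · refine ⟨0, ?_⟩
      have : (ω ^ 2 - 1) * (1 + ω ^ 2 + ω ^ 4) = 0 := by linear_combination h
      simpa using (mul_eq_zero.1 this).resolve_left (sub_ne_zero.2 h2)
  · rcases h3 with h3 | h3
    · rw [show ω ^ 4 = ω ^ 3 * ω by ring, h3, show (ω + 1 * ω) / 2 = ω by ring]
      exact isIntegral_root (by norm_num) h
    · rw [show ω ^ 4 = ω ^ 3 * ω by ring, h3, show (ω + -1 * ω) / 2 = 0 by ring]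
      exact isIntegral_zero

theorem int_sum {ι : Type*} [Fintype ι] {f : ι → ℂ} {c : ℂ} (h : ∀ i, ∃ a : ℤ, f i = c * a) :
    ∃ a : ℤ, ∑ i, f i = c * a := by
  choose a ha using h
  exact ⟨∑ i, a i, by rw [Int.cast_sum, Finset.mul_sum]; exact Finset.sum_congr rfl fun i _ => ha i⟩

/-- The integral coordinates of the values of a character at `t`, `t y₃`, `t y₅`, `t y₅'`. -/
theorem exists_coords {ι κ : Type*} [Fintype ι] [Fintype κ] (w : ι → ℂ) (v : κ → ℂ)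
    (hw : ∀ i, w i ^ 10 = 1) (hv : ∀ i, v i ^ 6 = 1) (f₀ f₁ f₂ f₃ : ℂ)
    (w5 : ∑ i, w i ^ 5 = f₀) (w1 : ∑ i, w i = f₂) (w9 : ∑ i, w i ^ 9 = f₂)
    (w3 : ∑ i, w i ^ 3 = f₃) (w7 : ∑ i, w i ^ 7 = f₃)
    (v3 : ∑ i, v i ^ 3 = f₀) (v1 : ∑ i, v i = f₁) (v5 : ∑ i, v i ^ 5 = f₁) :
    ∃ e x y m : ℤ, f₀ = 3 * e + x + y + 4 * m ∧ f₁ = -((x : ℂ) + y) / 2 + m ∧
      f₂ = (e : ℂ) / 2 + (-1 + ((Real.sqrt 5 : ℝ) : ℂ)) / 4 * x +
        (-1 - ((Real.sqrt 5 : ℝ) : ℂ)) / 4 * y - m ∧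
      f₃ = (e : ℂ) / 2 + (-1 - ((Real.sqrt 5 : ℝ) : ℂ)) / 4 * x +
        (-1 + ((Real.sqrt 5 : ℝ) : ℂ)) / 4 * y - m ∧
      e % 2 = x % 2 ∧ e % 2 = y % 2 := by
  set r : ℂ := ((Real.sqrt 5 : ℝ) : ℂ) with hr
  have hr5 : r * r = 5 := by
    rw [hr, ← Complex.ofReal_mul, Real.mul_self_sqrt (by norm_num)]; norm_num
  obtain ⟨e, he⟩ := int_sum (fun i => (ten_root (hw i)).1)
  obtain ⟨n₀, hn₀⟩ := int_sum (c := 1) (fun i => by simpa using (ten_root (hw i)).2.1)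
  obtain ⟨b, hb⟩ := int_sum (fun i => (ten_root (hw i)).2.2)
  obtain ⟨a, ha⟩ := int_sum (fun i => (six_root (hv i)).1)
  simp only [Finset.sum_add_distrib, Finset.sum_sub_distrib, w1, w3, w5, w7, w9, v1, v3, v5] at he hn₀ hb ha
  rw [one_mul] at hn₀
  have i1 : IsIntegral ℤ f₁ := v1 ▸ IsIntegral.sum _ fun i _ => isIntegral_root (by norm_num) (hv i)
  have i2 : IsIntegral ℤ f₂ := w1 ▸ IsIntegral.sum _ fun i _ => isIntegral_root (by norm_num) (hw i)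
  have i3 : IsIntegral ℤ f₃ :=
    w3 ▸ IsIntegral.sum _ fun i _ => (isIntegral_root (by norm_num) (hw i)).pow _
  have i4 : IsIntegral ℤ (2 * (e : ℂ) - (f₂ + f₃)) :=
    IsIntegral.sub (IsIntegral.mul (isIntegral_algebraMap (x := (2 : ℤ))) (isIntegral_algebraMap (x := e)))
      (i2.add i3)
  obtain ⟨k, hk, hk'⟩ := int_of_two_mul i4 (n₀ - e) (by push_cast; linear_combination hn₀ - he)
  obtain ⟨f, hf, hf'⟩ := int_of_two_mul i1 (3 * a - n₀) (by push_cast; linear_combination ha - hn₀)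
  have hb2 : 2 * (f₂ - f₃) = r * b := by linear_combination hb
  have i5 : IsIntegral ℤ ((f₂ - f₃) * (f₂ - f₃)) := (i2.sub i3).mul (i2.sub i3)
  obtain ⟨d, hd⟩ : ∃ d, b = 2 * d := by
    have hq : (f₂ - f₃) * (f₂ - f₃) = (((5 * b * b : ℤ) : ℚ) / 4 : ℚ) := by
      push_cast
      linear_combination (2 * (f₂ - f₃) + r * b) / 4 * hb2 + (b : ℂ) * b / 4 * hr5
    obtain ⟨z, hz⟩ := H12.exists_int_of_isIntegral_rat (hq ▸ i5)
    have hz' : ((4 * z : ℤ) : ℚ) = ((5 * b * b : ℤ) : ℚ) := by push_cast at hz ⊢; linarith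
    have hz4 : 4 * z = 5 * b * b := by exact_mod_cast hz'
    rcases Int.even_or_odd b with ⟨c, hc⟩ | ⟨c, hc⟩
    · exact ⟨c, by omega⟩
    · subst hc; ring_nf at hz4; omega
  subst hd
  have e2 : f₂ = (e : ℂ) - k / 2 + r * d / 2 := by
    push_cast at hb2; linear_combination hb2 / 4 - hk / 2
  have e3 : f₃ = (e : ℂ) - k / 2 - r * d / 2 := by
    push_cast at hb2; linear_combination -hb2 / 4 - hk / 2
  have hpar : k % 2 = d % 2 := by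
    have hq : f₂ * f₃ = ((((2 * e - k) * (2 * e - k) - 5 * d * d : ℤ) : ℚ) / 4 : ℚ) := by
      rw [e2, e3]; push_cast
      linear_combination -((d : ℂ) * d) / 4 * hr5
    obtain ⟨z, hz⟩ := H12.exists_int_of_isIntegral_rat (hq ▸ i2.mul i3)
    have hz' : ((4 * z : ℤ) : ℚ) = (((2 * e - k) * (2 * e - k) - 5 * d * d : ℤ) : ℚ) := by
      push_cast at hz ⊢; linarith
    have hz4 : 4 * z = (2 * e - k) * (2 * e - k) - 5 * d * d := by exact_mod_cast hz'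
    rcases Int.even_or_odd' k with ⟨k₁, rfl | rfl⟩ <;> rcases Int.even_or_odd' d with ⟨d₁, rfl | rfl⟩ <;>
      ring_nf at hz4 <;> omega
  refine ⟨e, 2 * (a - f) - k - e + d, 2 * (a - f) - k - e - d, k - (a - f), ?_, ?_, ?_, ?_, by omega,
    by omega⟩
  · have : n₀ = e + 2 * k := by omega
    rw [hn₀, this]; push_cast; ring
  · have : f = e + 2 * k - 3 * (a - f) := by omega
    rw [hf]
    have h' : (f : ℂ) = e + 2 * k - 3 * (a - f) := by exact_mod_cast this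
    push_cast
    linear_combination h'
  · rw [e2]; push_cast; ring
  · rw [e3]; push_cast; ring

end H16.J1
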