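import Cfsg.Agent.H16.Janko1.Local
import Cfsg.Agent.H16.Janko1.Values
import Cfsg.Agent.H18.DegreeTwicePLocal
import Cfsg.Agent.H24.Arith

/-!
The columns of the character table at `t` and `t y` for `y` of odd order in the centraliser.
-/

set_option autoImplicit false

open Cfsg
open scoped ComplexConjugate

namespace H16.J1

universe u

variable {G : Type u} [Group G] [Finite G]

theorem m_powers : zz 2 ^ 5 = tau ∧ zz 1 ^ 3 = tau ∧ zz 2 ^ 9 = (zz 2)⁻¹ ∧
    zz 2 ^ 7 = (zz 2 ^ 3)⁻¹ ∧ zz 1 ^ 5 = (zz 1)⁻¹ ∧ zz 2 ^ 10 = 1 ∧ zz 1 ^ 6 = 1 := by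
  decide +kernel

theorem Setup.irr_real (S : Setup G) (χ : IrrCharacter G) (i : Fin 4) :
    conj ((χ : G → ℂ) (S.z i)) = (χ : G → ℂ) (S.z i) := by
  rw [← H12.irr_inv]
  exact H12.IsClassFunction.of_isConj (H12.irr_isClassFunction χ) (S.isConj_inv i).symm

theorem Setup.irr_z3 (S : Setup G) (χ : IrrCharacter G) :
    (χ : G → ℂ) (S.z 2 ^ 3) = (χ : G → ℂ) (S.z 3) := by
  obtain ⟨m, hm⟩ := conj_cube
  refine H12.IsClassFunction.of_isConj (H12.irr_isClassFunction χ) (isConj_iff.2 ⟨S.emb m, ?_⟩)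
  rw [Setup.z, Setup.z, ← map_inv, ← map_pow, ← map_mul, ← map_mul, hm]

theorem Setup.exists_row (S : Setup G) (χ : IrrCharacter G) :
    ∃ e x y m : ℤ, (χ : G → ℂ) (S.z 0) = 3 * e + x + y + 4 * m ∧
      (χ : G → ℂ) (S.z 1) = -((x : ℂ) + y) / 2 + m ∧
      (χ : G → ℂ) (S.z 2) = (e : ℂ) / 2 + (-1 + ((Real.sqrt 5 : ℝ) : ℂ)) / 4 * x +
        (-1 - ((Real.sqrt 5 : ℝ) : ℂ)) / 4 * y - m ∧
      (χ : G → ℂ) (S.z 3) = (e : ℂ) / 2 + (-1 - ((Real.sqrt 5 : ℝ) : ℂ)) / 4 * x +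
        (-1 + ((Real.sqrt 5 : ℝ) : ℂ)) / 4 * y - m ∧
      e % 2 = x % 2 ∧ e % 2 = y % 2 := by
  obtain ⟨p5, p3, p9, p7, p15, o10, o6⟩ := m_powers
  obtain ⟨n, w, hw, hwv⟩ := H18.exists_roots (H12.isCharacter_irr χ) (S.z 2) 10
    (by rw [Setup.z, ← map_pow, o10, map_one])
  obtain ⟨l, v, hv, hvv⟩ := H18.exists_roots (H12.isCharacter_irr χ) (S.z 1) 6
    (by rw [Setup.z, ← map_pow, o6, map_one])
  refine exists_coords w v hw hv _ _ _ _ ?_ ?_ ?_ ?_ ?_ ?_ ?_ ?_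
  · rw [← hwv, Setup.z, ← map_pow, p5]; rfl
  · simpa using (hwv 1).symm
  · rw [← hwv, Setup.z, ← map_pow, p9, map_inv, H12.irr_inv, ← Setup.z, S.irr_real]
  · rw [← hwv, S.irr_z3]
  · rw [← hwv, Setup.z, ← map_pow, p7, map_inv, map_pow, H12.irr_inv, ← Setup.z, S.irr_z3,
      S.irr_real]
  · rw [← hvv, Setup.z, ← map_pow, p3]; rfl
  · simpa using (hvv 1).symm
  · rw [← hvv, Setup.z, ← map_pow, p15, map_inv, H12.irr_inv, ← Setup.z, S.irr_real]

variable (S : Setup G)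

/-- The first coordinate. -/
noncomputable def Setup.ce (χ : IrrCharacter G) : ℤ := (S.exists_row χ).choose

/-- The second coordinate. -/
noncomputable def Setup.cx (χ : IrrCharacter G) : ℤ := (S.exists_row χ).choose_spec.choose

/-- The third coordinate. -/
noncomputable def Setup.cy (χ : IrrCharacter G) : ℤ :=
  (S.exists_row χ).choose_spec.choose_spec.choose

/-- The fourth coordinate. -/
noncomputable def Setup.cm (χ : IrrCharacter G) : ℤ :=
  (S.exists_row χ).choose_spec.choose_spec.choose_spec.choose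

/-- The degree. -/
noncomputable def Setup.deg (_S : Setup G) (χ : IrrCharacter G) : ℤ :=
  (charDegree (χ : G → ℂ) : ℤ)

/-- The value at the involution. -/
noncomputable def Setup.val (χ : IrrCharacter G) : ℤ :=
  3 * S.ce χ + S.cx χ + S.cy χ + 4 * S.cm χ

theorem Setup.row_spec (χ : IrrCharacter G) :
    (χ : G → ℂ) (S.z 0) = 3 * S.ce χ + S.cx χ + S.cy χ + 4 * S.cm χ ∧
      (χ : G → ℂ) (S.z 1) = -((S.cx χ : ℂ) + S.cy χ) / 2 + S.cm χ ∧
      (χ : G → ℂ) (S.z 2) = (S.ce χ : ℂ) / 2 + (-1 + ((Real.sqrt 5 : ℝ) : ℂ)) / 4 * S.cx χ +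
        (-1 - ((Real.sqrt 5 : ℝ) : ℂ)) / 4 * S.cy χ - S.cm χ ∧
      (χ : G → ℂ) (S.z 3) = (S.ce χ : ℂ) / 2 + (-1 - ((Real.sqrt 5 : ℝ) : ℂ)) / 4 * S.cx χ +
        (-1 + ((Real.sqrt 5 : ℝ) : ℂ)) / 4 * S.cy χ - S.cm χ ∧
      S.ce χ % 2 = S.cx χ % 2 ∧ S.ce χ % 2 = S.cy χ % 2 :=
  (S.exists_row χ).choose_spec.choose_spec.choose_spec.choose_spec

theorem Setup.parity_x (χ : IrrCharacter G) : S.ce χ % 2 = S.cx χ % 2 :=
  (S.row_spec χ).2.2.2.2.1

theorem Setup.parity_y (χ : IrrCharacter G) : S.ce χ % 2 = S.cy χ % 2 :=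
  (S.row_spec χ).2.2.2.2.2

theorem Setup.val_eq (χ : IrrCharacter G) : (χ : G → ℂ) S.t = (S.val χ : ℂ) := by
  rw [← S.z_zero, (S.row_spec χ).1, Setup.val]; push_cast; ring

theorem Setup.deg_eq (χ : IrrCharacter G) : (χ : G → ℂ) 1 = (S.deg χ : ℂ) := by
  rw [H24.irr_one]; simp [Setup.deg]

theorem Setup.deg_pos (χ : IrrCharacter G) : 0 < S.deg χ := by
  have := H24.irr_pos χ; simp only [Setup.deg]; omega

theorem Setup.deg_dvd (χ : IrrCharacter G) : S.deg χ ∣ (Nat.card G : ℤ) :=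
  haveI := Fintype.ofFinite G
  Int.natCast_dvd_natCast.2 (H12.irr_degree_dvd_card χ)

/-- Coefficients of a coordinate in terms of the four values. -/
noncomputable def coef : Fin 4 → Fin 4 → ℂ :=
  ![![1 / 5, 0, 2 / 5, 2 / 5],
    ![1 / 15, -(2 / 3), (-1 + ((Real.sqrt 5 : ℝ) : ℂ)) / 5, (-1 - ((Real.sqrt 5 : ℝ) : ℂ)) / 5],
    ![1 / 15, -(2 / 3), (-1 - ((Real.sqrt 5 : ℝ) : ℂ)) / 5, (-1 + ((Real.sqrt 5 : ℝ) : ℂ)) / 5],
    ![1 / 15, 1 / 3, -(1 / 5), -(1 / 5)]]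

/-- The four coordinates as one family. -/
noncomputable def Setup.crd (χ : IrrCharacter G) : Fin 4 → ℤ :=
  ![S.ce χ, S.cx χ, S.cy χ, S.cm χ]

theorem sqrt_five_mul : ((Real.sqrt 5 : ℝ) : ℂ) * ((Real.sqrt 5 : ℝ) : ℂ) = 5 := by
  rw [← Complex.ofReal_mul, Real.mul_self_sqrt (by norm_num)]; norm_num

theorem Setup.crd_eq (χ : IrrCharacter G) (k : Fin 4) :
    (S.crd χ k : ℂ) = ∑ i, coef k i * (χ : G → ℂ) (S.z i) := by
  obtain ⟨h0, h1, h2, h3, -, -⟩ := S.row_spec χ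
  rw [Fin.sum_univ_four, h0, h1, h2, h3]
  have hr := sqrt_five_mul
  fin_cases k <;> simp [coef, Setup.crd] <;>
    first
    | linear_combination -(((S.cx χ : ℂ) - S.cy χ) / 10) * hr
    | linear_combination (((S.cx χ : ℂ) - S.cy χ) / 10) * hr
    | ring1

theorem Setup.sum_gram [Fintype (IrrCharacter G)] (k l : Fin 4) :
    ((∑ χ, S.crd χ k * S.crd χ l : ℤ) : ℂ) = ∑ i, coef k i * coef l i * (cz i : ℂ) := by
  classical
  haveI := Fintype.ofFinite G
  push_cast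
  simp only [S.crd_eq, Finset.sum_mul_sum]
  rw [Finset.sum_comm]
  refine Finset.sum_congr rfl fun i _ => ?_
  rw [Finset.sum_comm, Finset.sum_eq_single i (fun j _ hj => ?_) (by simp)]
  · rw [← S.card_centralizer i, ← if_pos (c := IsConj (S.z i) (S.z i)) (IsConj.refl (S.z i))
      (t := ((Nat.card (Subgroup.centralizer ({S.z i} : Set G)) : ℕ) : ℂ)) (e := (0 : ℂ)),
      ← H12.column_orthogonality, Finset.mul_sum]
    refine Finset.sum_congr (Finset.ext fun χ => by simp) fun χ _ => ?_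
    rw [S.irr_real]; ring
  · have h := H12.column_orthogonality (S.z i) (S.z j)
    rw [if_neg (S.not_isConj (Ne.symm hj))] at h
    rw [← mul_zero (coef k i * coef l j), ← h, Finset.mul_sum]
    refine Finset.sum_congr (Finset.ext fun χ => by simp) fun χ _ => ?_
    rw [S.irr_real]; ring

theorem Setup.z_ne (i : Fin 4) : S.z i ≠ 1 := fun h => by
  refine S.t_ne ?_
  rw [← S.z_pow i, h, one_pow]

theorem Setup.sum_deg [Fintype (IrrCharacter G)] (k : Fin 4) :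
    ∑ χ, S.deg χ * S.crd χ k = 0 := by
  classical
  haveI := Fintype.ofFinite G
  have h : ((∑ χ, S.deg χ * S.crd χ k : ℤ) : ℂ) = 0 := by
    push_cast
    simp only [S.crd_eq, ← S.deg_eq, Finset.mul_sum]
    rw [Finset.sum_comm]
    refine Finset.sum_eq_zero fun i _ => ?_
    have h := H12.column_orthogonality (S.z i) 1
    rw [if_neg (fun hc => S.z_ne i (isConj_one_right.1 hc.symm))] at h
    rw [← mul_zero (coef k i), ← h, Finset.mul_sum]
    refine Finset.sum_congr (Finset.ext fun χ => by simp) fun χ _ => ?_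
    rw [show (χ : G → ℂ) 1 = ((charDegree (χ : G → ℂ)) : ℂ) from H24.irr_one χ, Complex.conj_natCast]
    ring
  exact_mod_cast h

/-- The structure constants in coordinates. -/
def structVec : Fin 4 → ℚ := ![14, -6, -6, 0]

theorem coef_struct (k : Fin 4) : ∑ i, coef k i * (nz i : ℂ) = (structVec k : ℂ) := by
  fin_cases k <;> simp [coef, nz, structVec, Fin.sum_univ_four] <;> ring

theorem Setup.sum_struct [IsSimpleGroup G] [Fintype (IrrCharacter G)] (k : Fin 4) :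
    ∑ χ, ((S.val χ : ℚ) * S.val χ / S.deg χ) * S.crd χ k =
      14400 / (Nat.card G : ℚ) * structVec k := by
  classical
  haveI := Fintype.ofFinite G
  have hg : (Nat.card G : ℂ) ≠ 0 := by exact_mod_cast Nat.card_pos.ne'
  have hi : ((Subgroup.centralizer ({S.t} : Set G)).index : ℂ) * 120 = (Nat.card G : ℂ) := by
    exact_mod_cast S.index_t
  have key : ∀ i, ∑ χ : IrrCharacter G, (χ : G → ℂ) S.t * (χ : G → ℂ) S.t *
      (χ : G → ℂ) (S.z i) / (χ : G → ℂ) 1 = 14400 * (nz i : ℂ) / (Nat.card G : ℂ) := by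
    intro i
    have h := H24.classMult_eq S.t S.t (S.z i)
    rw [S.classMult_z] at h
    simp only [S.irr_real] at h
    rw [eq_div_iff hg]
    apply mul_right_cancel₀ hg
    have h' : (nz i : ℂ) * (Nat.card G : ℂ) =
        ((Subgroup.centralizer ({S.t} : Set G)).index : ℂ) *
          ((Subgroup.centralizer ({S.t} : Set G)).index : ℂ) * ∑ χ : IrrCharacter G,
          (χ : G → ℂ) S.t * (χ : G → ℂ) S.t * (χ : G → ℂ) (S.z i) / (χ : G → ℂ) 1 :=
      h.trans (congrArg _ (Finset.sum_congr (Finset.ext fun χ => by simp) fun _ _ => rfl))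
    clear h
    rw [← hi] at h' ⊢
    linear_combination (-14400 : ℂ) * h'
  have h : ((∑ χ, ((S.val χ : ℚ) * S.val χ / S.deg χ) * S.crd χ k : ℚ) : ℂ) =
      ((14400 / (Nat.card G : ℚ) * structVec k : ℚ) : ℂ) := by
    push_cast
    rw [← coef_struct, Finset.mul_sum]
    simp only [← S.val_eq, ← S.deg_eq, S.crd_eq, Finset.mul_sum]
    rw [Finset.sum_comm]
    refine Finset.sum_congr rfl fun i _ => ?_
    rw [← mul_assoc, mul_comm ((14400 : ℂ) / _) (coef k i), mul_assoc,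
      show (14400 : ℂ) / (Nat.card G : ℂ) * (nz i : ℂ) = 14400 * (nz i : ℂ) / (Nat.card G : ℂ) by ring,
      ← key, Finset.mul_sum]
    refine Finset.sum_congr (Finset.ext fun χ => by simp) fun χ _ => ?_
    ring
  exact_mod_cast h

theorem Setup.mult_syl [IsSimpleGroup G] (χ : IrrCharacter G) :
    (S.deg χ - S.val χ) % 8 = 0 ∧ 0 ≤ S.deg χ + 7 * S.val χ := by
  classical
  haveI := Fintype.ofFinite S.syl
  obtain ⟨n, hn⟩ := H24.sum_subgroup_eq (H12.isCharacter_irr χ) S.syl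
  rw [S.card_syl, ← Finset.add_sum_erase _ _ (Finset.mem_univ (1 : S.syl)),
    Finset.sum_congr rfl (g := fun _ => (S.val χ : ℂ)) (fun x hx => by
      rw [← S.val_eq]
      refine (H12.IsClassFunction.of_isConj (H12.irr_isClassFunction χ) (S.syl_conj x.2 ?_)).symm
      intro h
      exact Finset.ne_of_mem_erase hx (Subtype.ext h)),
    Finset.sum_const, Finset.card_erase_of_mem (Finset.mem_univ _), Finset.card_univ,
    ← Nat.card_eq_fintype_card, S.card_syl, nsmul_eq_mul] at hn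
  have h1 : (χ : G → ℂ) ((1 : S.syl) : G) = (S.deg χ : ℂ) := S.deg_eq χ
  rw [h1] at hn
  have h2 : S.deg χ + 7 * S.val χ = 8 * (n : ℤ) := by
    have : ((S.deg χ + 7 * S.val χ : ℤ) : ℂ) = ((8 * (n : ℤ) : ℤ) : ℂ) := by
      push_cast at hn ⊢; linear_combination hn
    exact_mod_cast this
  omega

theorem Setup.sum_deg_sq [Fintype (IrrCharacter G)] :
    ∑ χ, S.deg χ * S.deg χ = (Nat.card G : ℤ) := by
  haveI := Fintype.ofFinite G
  rw [← H12.sum_degree_sq_nat, Nat.cast_sum]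
  refine Finset.sum_congr (Finset.ext fun χ => by simp) fun χ _ => ?_
  rw [sq, Nat.cast_mul]
  rfl

end H16.J1
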