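import Cfsg.Agent.H16.Janko1.Local
import Cfsg.Agent.H66.Inverted
import Cfsg.Agent.H65.CyclicSylow

/-!
The centraliser of an element of order three and the involutions inverting it.
-/

set_option autoImplicit false

namespace H16.J1

universe u

variable {G : Type u} [Group G]

theorem m3_facts : m3 ^ 3 = 1 ∧ m3 ≠ 1 ∧ mv ^ 2 = 1 ∧ mv ≠ 1 ∧ mv * m3 * mv⁻¹ = m3⁻¹ ∧
    tau * m3 = m3 * tau ∧ tau * mv = mv * tau ∧ tau * mv ≠ 1 := by
  refine ⟨?_, ?_, ?_, ?_, ?_, ?_, ?_, ?_⟩ <;> decide +kernel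

theorem cent_m3_sq : (Finset.univ.filter fun m : M =>
    (m * m3 = m3 * m ∧ m ^ 2 = 1) ∧ m ≠ 1).card = 1 := by decide +kernel

theorem tau_cent_m3 : tau ∈ (Finset.univ.filter fun m : M =>
    (m * m3 = m3 * m ∧ m ^ 2 = 1) ∧ m ≠ 1) := by decide +kernel

theorem cent_m3_card : (Finset.univ.filter fun m : M => m * m3 = m3 * m).card = 6 := by
  decide +kernel

theorem odd_fst : ∀ i : C2, i ^ 15 = 1 → i = 1 := by decide +kernel

theorem odd_comm_card : (Finset.univ.filter fun b : A5 => b ^ 15 = 1 ∧ (1 : A5) * b = b * 1).card = 45 := by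
  decide +kernel

variable [Finite G]

/-- An odd subgroup of an involution centraliser with commuting elements has order 1, 3 or 5. -/
theorem Setup.card_odd_abelian (S : Setup G) (A : Subgroup G) (hA : Odd (Nat.card A))
    (hab : ∀ a ∈ A, ∀ b ∈ A, a * b = b * a) (hc : ∀ a ∈ A, a * S.t = S.t * a) :
    Nat.card A = 1 ∨ Nat.card A = 3 ∨ Nat.card A = 5 := by
  classical
  have pre : ∀ a : A, ∃ m : A5, S.emb (1, m) = a.1 ∧ m ^ 15 = 1 := by
    intro a
    obtain ⟨⟨i, m⟩, hm⟩ := S.mem a.1 (hc a.1 a.2)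
    have h30 : ((i, m) : M) ^ 30 = 1 := orders _
    have hodd : Odd (orderOf ((i, m) : M)) := by
      rw [← orderOf_injective S.emb S.inj, hm, Subgroup.orderOf_coe]
      exact hA.of_dvd_nat (orderOf_dvd_natCard a)
    have hd : orderOf ((i, m) : M) ∣ 2 * 15 := orderOf_dvd_of_pow_eq_one h30
    have h15 : ((i, m) : M) ^ 15 = 1 := orderOf_dvd_iff_pow_eq_one.1
      (((Nat.coprime_two_right).2 hodd).dvd_of_dvd_mul_left hd)
    have hi : i = 1 := odd_fst i (congrArg Prod.fst h15)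
    subst hi
    exact ⟨m, hm, congrArg Prod.snd h15⟩
  choose f hf hf15 using pre
  have finj : Function.Injective f := fun a b h => Subtype.ext (by rw [← hf a, ← hf b, h])
  by_cases h1 : ∀ a : A, f a = 1
  · left
    haveI : Subsingleton A := ⟨fun a b => finj (by rw [h1, h1])⟩
    exact Nat.card_of_subsingleton 1
  push Not at h1
  obtain ⟨a, ha⟩ := h1
  have hle : ∀ b : A, f a * f b = f b * f a := fun b => by
    have h := hab _ a.2 _ b.2
    rw [← hf a, ← hf b, ← map_mul, ← map_mul] at h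
    exact congrArg Prod.snd (S.inj h)
  have hn : Nat.card A ≤ (Finset.univ.filter fun b : A5 => b ^ 15 = 1 ∧ f a * b = b * f a).card := by
    rw [← Fintype.card_subtype, ← Nat.card_eq_fintype_card]
    exact Nat.card_le_card_of_injective (fun b => ⟨f b, hf15 b, hle b⟩)
      fun b c h => finj (congrArg Subtype.val h)
  have h5 : Nat.card A ≤ 5 := by rcases odd_comm (f a) (hf15 a) ha with h | h <;> omega
  obtain ⟨k, hk⟩ := hA
  omega

variable (S : Setup G)

/-- An element of order three centralised by `t`. -/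
def Setup.y : G := S.emb m3

/-- An involution commuting with `t` and inverting `y`. -/
def Setup.v : G := S.emb mv

omit [Finite G] in
theorem Setup.t_comm_y : S.t * S.y = S.y * S.t := by
  simp only [Setup.t, Setup.y, ← map_mul, m3_facts.2.2.2.2.2.1]

omit [Finite G] in
theorem Setup.t_comm_v : S.t * S.v = S.v * S.t := by
  simp only [Setup.t, Setup.v, ← map_mul, m3_facts.2.2.2.2.2.2.1]

omit [Finite G] in
theorem Setup.v_sq : S.v ^ 2 = 1 ∧ S.v ≠ 1 := by
  refine ⟨by rw [Setup.v, ← map_pow, m3_facts.2.2.1, map_one], fun h => m3_facts.2.2.2.1 (S.inj ?_)⟩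
  exact h.trans (map_one _).symm

omit [Finite G] in
theorem Setup.tv_sq : (S.t * S.v) ^ 2 = 1 ∧ S.t * S.v ≠ 1 := by
  refine ⟨?_, fun h => m3_facts.2.2.2.2.2.2.2 (S.inj ?_)⟩
  · rw [(Commute.mul_pow S.t_comm_v), S.t_sq, S.v_sq.1, one_mul]
  · rw [map_mul, map_one]; exact h

omit [Finite G] in
theorem Setup.v_inv : S.v * S.y * S.v⁻¹ = S.y⁻¹ := by
  simp only [Setup.v, Setup.y, ← map_inv, ← map_mul, m3_facts.2.2.2.2.1]

omit [Finite G] in
theorem Setup.y_facts : S.y ^ 3 = 1 ∧ S.y ≠ 1 := by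
  refine ⟨by rw [Setup.y, ← map_pow, m3_facts.1, map_one], fun h => m3_facts.2.1 (S.inj ?_)⟩
  exact h.trans (map_one _).symm

theorem Setup.card_cent_y_t :
    Nat.card {g : G // g * S.y = S.y * g ∧ g * S.t = S.t * g} = 6 := by
  classical
  rw [← cent_m3_card, ← Fintype.card_subtype, ← Nat.card_eq_fintype_card]
  symm
  refine Nat.card_eq_of_bijective (fun m => ⟨S.emb m.1, ?_, ?_⟩) ⟨?_, ?_⟩
  · simp only [Setup.y, ← map_mul, m.2]
  · obtain ⟨⟨i, b⟩, -⟩ := m
    simp only [Setup.t, ← map_mul]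
    congr 1
    simp [tau, Prod.ext_iff, mul_comm]
  · intro a b h
    exact Subtype.ext (S.inj (congrArg Subtype.val h))
  · rintro ⟨g, hgy, hgt⟩
    obtain ⟨m, rfl⟩ := S.mem g hgt
    exact ⟨⟨m, S.inj (by rw [map_mul, map_mul]; exact hgy)⟩, rfl⟩

/-- The odd part of the centraliser of `y`. -/
theorem Setup.exists_core : ∃ O : Subgroup G, Odd (Nat.card O) ∧
    (∀ g ∈ O, g * S.y = S.y * g) ∧
    Nat.card (Subgroup.centralizer ({S.y} : Set G)) = 2 * Nat.card O ∧
    (∀ g, g * S.y = S.y * g → g ∈ O ∨ g * S.t ∈ O) ∧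
    (∀ g, g * S.y = S.y * g → Odd (orderOf g) → g ∈ O) := by
  classical
  haveI : Fact (Nat.Prime 2) := ⟨Nat.prime_two⟩
  set C := Subgroup.centralizer ({S.y} : Set G) with hC
  have htC : S.t ∈ C := Subgroup.mem_centralizer_singleton_iff.2 S.t_comm_y
  have htord : orderOf (⟨S.t, htC⟩ : C) = 2 := by rw [Subgroup.orderOf_mk, S.orderOf_t]
  obtain ⟨P, hP⟩ := (IsPGroup.of_card (G := Subgroup.zpowers (⟨S.t, htC⟩ : C)) (n := 1) (p := 2)
    (by rw [Nat.card_zpowers, htord]; rfl)).exists_le_sylow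
  have htP : (⟨S.t, htC⟩ : C) ∈ (P : Subgroup C) := hP (Subgroup.mem_zpowers _)
  haveI : Nontrivial (P : Subgroup C) := by
    refine ⟨⟨⟨_, htP⟩, 1, fun h => S.t_ne ?_⟩⟩
    exact congrArg (fun p : (P : Subgroup C) => ((p : C) : G)) h
  haveI : Nontrivial (Subgroup.center (P : Subgroup C)) := P.2.center_nontrivial
  obtain ⟨u, hu⟩ := exists_prime_orderOf_dvd_card' 2 (G := Subgroup.center (P : Subgroup C)) (by
    rcases (P.2.to_subgroup (Subgroup.center (P : Subgroup C))).card_eq_or_dvd with h | h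
    · exact absurd h Finite.one_lt_card.ne'
    · exact h)
  set uc : C := ((u : (P : Subgroup C)) : C) with huc
  have hucu : orderOf uc = 2 := by rw [huc, Subgroup.orderOf_coe, Subgroup.orderOf_coe, hu]
  have hut : (uc : G) * S.t = S.t * uc := by
    have h := Subgroup.mem_center_iff.1 u.2 ⟨_, htP⟩
    exact (congrArg (fun p : (P : Subgroup C) => ((p : C) : G)) h).symm
  obtain ⟨m, hm⟩ := S.mem _ hut
  have hmtau : m = tau := by
    obtain ⟨a, ha⟩ := Finset.card_eq_one.1 cent_m3_sq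
    have h1 : m ∈ ({a} : Finset M) := by
      rw [← ha, Finset.mem_filter]
      refine ⟨Finset.mem_univ _, ⟨S.inj ?_, S.inj ?_⟩, ?_⟩
      · rw [map_mul, map_mul, hm]
        exact Subgroup.mem_centralizer_singleton_iff.1 uc.2
      · rw [map_pow, hm, map_one]
        have : uc ^ 2 = 1 := by rw [← hucu]; exact pow_orderOf_eq_one uc
        exact congrArg Subtype.val this
      · rintro rfl
        rw [map_one] at hm
        have : uc = 1 := Subtype.ext hm.symm
        rw [this, orderOf_one] at hucu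
        norm_num at hucu
    have h2 : tau ∈ ({a} : Finset M) := ha ▸ tau_cent_m3
    rw [Finset.mem_singleton] at h1 h2
    rw [h1, h2]
  have hcentral : ∀ p ∈ (P : Subgroup C), (p : G) * S.t = S.t * p := by
    intro p hp
    have h := Subgroup.mem_center_iff.1 u.2 ⟨p, hp⟩
    have h' : (p : G) * (uc : G) = (uc : G) * p :=
      congrArg (fun q : (P : Subgroup C) => ((q : C) : G)) h
    rwa [← hm, hmtau] at h'
  have hle : Nat.card (P : Subgroup C) ≤ 6 := by
    rw [← S.card_cent_y_t]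
    refine Nat.card_le_card_of_injective
      (fun p => ⟨((p : C) : G), Subgroup.mem_centralizer_singleton_iff.1 p.1.2, hcentral p.1 p.2⟩) ?_
    intro a b h
    simp only [Subtype.mk.injEq] at h
    exact Subtype.ext (Subtype.ext h)
  have hfac : (Nat.card C).factorization 2 ≤ 2 ∧ Nat.card (P : Subgroup C) = 2 ^ (Nat.card C).factorization 2 := by
    refine ⟨?_, P.card_eq_multiplicity⟩
    by_contra h
    have : 2 ^ 3 ≤ 2 ^ (Nat.card C).factorization 2 := Nat.pow_le_pow_right (by norm_num) (by omega)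
    rw [← P.card_eq_multiplicity] at this
    omega
  have h2 : Nat.card (P : Subgroup C) = 2 := by
    -- a subgroup of order four would give a second involution or an element of order four
    have hpos : 2 ∣ Nat.card (P : Subgroup C) := by
      have := orderOf_dvd_natCard (⟨_, htP⟩ : (P : Subgroup C))
      rwa [Subgroup.orderOf_mk, htord] at this
    by_contra hne
    have h4 : Nat.card (P : Subgroup C) = 4 := by
      obtain ⟨hf, hc⟩ := hfac
      interval_cases h : (Nat.card C).factorization 2 <;> omega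
    have hsub : (P : Subgroup C).map C.subtype ≤ Subgroup.centralizer ({S.y} : Set G) ⊓
        Subgroup.centralizer ({S.t} : Set G) := by
      rintro _ ⟨p, hp, rfl⟩
      exact ⟨p.2, Subgroup.mem_centralizer_singleton_iff.2 (hcentral p hp)⟩
    have hd := Subgroup.card_dvd_of_le hsub
    rw [← Nat.card_congr ((P : Subgroup C).equivMapOfInjective C.subtype C.subtype_injective).toEquiv,
      h4] at hd
    have h6 : Nat.card ↥(Subgroup.centralizer ({S.y} : Set G) ⊓
        Subgroup.centralizer ({S.t} : Set G)) = 6 := by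
      rw [← S.card_cent_y_t]
      exact Nat.card_congr (Equiv.subtypeEquivRight fun g => by
        simp only [Subgroup.mem_inf, Subgroup.mem_centralizer_singleton_iff])
    rw [h6] at hd
    norm_num at hd
  have heven : Even (Nat.card C) := by
    rw [even_iff_two_dvd, ← htord]; exact orderOf_dvd_natCard _
  obtain ⟨H, hH⟩ := H65.exists_index_two_of_cyclic_sylow heven P
    (isCyclic_of_prime_card h2)
  have hHn : H.Normal := Subgroup.normal_of_index_eq_two hH
  have hcard := H.card_mul_index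
  rw [hH] at hcard
  have hHodd : Odd (Nat.card H) := by
    rw [← Nat.not_even_iff_odd, even_iff_two_dvd]
    intro hd
    have : 2 ^ 2 ∣ Nat.card C := by rw [← hcard]; exact mul_dvd_mul hd dvd_rfl
    have h' := (Nat.prime_two.pow_dvd_iff_le_factorization Nat.card_pos.ne').1 this
    obtain ⟨-, hc⟩ := hfac
    have : 2 ^ 2 ≤ 2 ^ (Nat.card C).factorization 2 := Nat.pow_le_pow_right (by norm_num) h'
    omega
  have hOcard : Nat.card (H.map C.subtype) = Nat.card H :=
    (Nat.card_congr (H.equivMapOfInjective C.subtype C.subtype_injective).toEquiv).symm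
  refine ⟨H.map C.subtype, hOcard ▸ hHodd, ?_, ?_, ?_, ?_⟩
  · rintro _ ⟨h, -, rfl⟩
    exact Subgroup.mem_centralizer_singleton_iff.1 h.2
  · rw [hOcard, mul_comm, hcard]
  · intro g hg
    have hgC : g ∈ C := Subgroup.mem_centralizer_singleton_iff.2 hg
    by_cases hgH : (⟨g, hgC⟩ : C) ∈ H
    · exact Or.inl ⟨_, hgH, rfl⟩
    · refine Or.inr ⟨⟨g, hgC⟩ * ⟨S.t, htC⟩, ?_, rfl⟩
      refine (Subgroup.mul_mem_iff_of_index_two hH).2 (iff_of_false hgH fun hm => ?_)
      have h' := hHodd.of_dvd_nat (orderOf_dvd_natCard (⟨_, hm⟩ : H))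
      rw [Subgroup.orderOf_mk, htord] at h'
      norm_num at h'
  · intro g hg hodd
    have hgC : g ∈ C := Subgroup.mem_centralizer_singleton_iff.2 hg
    refine ⟨⟨g, hgC⟩, ?_, rfl⟩
    obtain ⟨k, hk⟩ := hodd
    have hsq := Subgroup.mul_self_mem_of_index_two hH (⟨g, hgC⟩ : C)
    have : (⟨g, hgC⟩ : C) = ((⟨g, hgC⟩ : C) * ⟨g, hgC⟩) ^ (k + 1) := by
      refine Subtype.ext ?_
      show g = (g * g) ^ (k + 1)
      rw [← pow_two, ← pow_mul, show 2 * (k + 1) = orderOf g + 1 by omega, pow_succ,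
        pow_orderOf_eq_one, one_mul]
    rw [this]
    exact pow_mem hsq _

theorem cent_m3_odd_v : ∀ m : M, m * m3 = m3 * m → m ^ 30 = 1 → Odd (orderOf m) → m ^ 15 = 1 :=
  fun m _ h hodd => orderOf_dvd_iff_pow_eq_one.1
    (((Nat.coprime_two_right).2 hodd).dvd_of_dvd_mul_left
      (orderOf_dvd_of_pow_eq_one (show m ^ (2 * 15) = 1 from h)))

/-- The orders of `C(y)` and the number of involution factorisations of `y`. -/
theorem Setup.three_local [IsSimpleGroup G] : ∃ a b : ℕ, (a = 1 ∨ a = 3 ∨ a = 5) ∧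
    (b = 1 ∨ b = 3 ∨ b = 5) ∧ Nat.card (Subgroup.centralizer ({S.y} : Set G)) = 6 * a * b ∧
    H24.classMult S.t S.t S.y = 3 * (a + b) := by
  classical
  obtain ⟨O, hOodd, hOy, hCcard, hsplit, hodd⟩ := S.exists_core
  have hX := H66.odd_orderOf_of_mem_odd_card hOodd
  have tt : S.t * S.t = 1 := mul_self_of_sq S.t_sq
  have vv : S.v * S.v = 1 := mul_self_of_sq S.v_sq.1
  have ww : S.t * S.v * (S.t * S.v) = 1 := mul_self_of_sq S.tv_sq.1
  have norm : ∀ u : G, (u * S.y * u⁻¹ = S.y ∨ u * S.y * u⁻¹ = S.y⁻¹) → ∀ g ∈ O,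
      u * g * u⁻¹ ∈ O := by
    intro u hu g hg
    refine hodd _ ?_ ?_
    · have hgy : Commute g S.y := hOy g hg
      rcases hu with hu | hu
      · calc u * g * u⁻¹ * S.y = u * (g * S.y) * u⁻¹ := by
              conv_lhs => rw [← hu]
              group
          _ = u * (S.y * g) * u⁻¹ := by rw [hOy g hg]
          _ = _ := by conv_rhs => rw [← hu]
                      group
      · have hy : u * S.y⁻¹ * u⁻¹ = S.y := by
          calc u * S.y⁻¹ * u⁻¹ = (u * S.y * u⁻¹)⁻¹ := by group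
            _ = S.y := by rw [hu, inv_inv]
        calc u * g * u⁻¹ * S.y = u * (g * S.y⁻¹) * u⁻¹ := by
              conv_lhs => rw [← hy]
              group
          _ = u * (S.y⁻¹ * g) * u⁻¹ := by rw [hgy.inv_right.eq]
          _ = _ := by conv_rhs => rw [← hy]
                      group
    · rw [show u * g * u⁻¹ = MulAut.conj u g from rfl, MulEquiv.orderOf_eq]
      exact hX g hg
  have nt : ∀ g ∈ O, S.t * g * S.t⁻¹ ∈ O :=
    norm S.t (Or.inl (by rw [S.t_comm_y, mul_inv_cancel_right]))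
  have nv : ∀ g ∈ O, S.v * g * S.v⁻¹ ∈ O := norm S.v (Or.inr S.v_inv)
  have nw : ∀ g ∈ O, S.t * S.v * g * (S.t * S.v)⁻¹ ∈ O := fun g hg => by
    have : S.t * S.v * g * (S.t * S.v)⁻¹ = S.t * (S.v * g * S.v⁻¹) * S.t⁻¹ := by group
    rw [this]; exact nt _ (nv _ hg)
  -- the fixed points of `t`
  have fix3 : Nat.card ↥(O ⊓ Subgroup.centralizer ({S.t} : Set G)) = 3 := by
    rw [← cent_y3_card, ← Fintype.card_subtype, ← Nat.card_eq_fintype_card]
    symm
    refine Nat.card_eq_of_bijective (fun m => ⟨S.emb m.1, Subgroup.mem_inf.2 ⟨?_, ?_⟩⟩) ⟨?_, ?_⟩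
    · refine hodd _ (by simp only [Setup.y, ← map_mul, m.2.1]) ?_
      rw [orderOf_injective S.emb S.inj]
      exact Odd.of_dvd_nat (by decide : Odd 15) (orderOf_dvd_of_pow_eq_one m.2.2)
    · obtain ⟨⟨i, b⟩, -⟩ := m
      rw [Subgroup.mem_centralizer_singleton_iff]
      simp only [Setup.t, ← map_mul]
      congr 1
      simp [tau, Prod.ext_iff, mul_comm]
    · intro p q h
      exact Subtype.ext (S.inj (congrArg Subtype.val h))
    · rintro ⟨g, hg⟩
      obtain ⟨hgO, hgt⟩ := Subgroup.mem_inf.1 hg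
      obtain ⟨m, rfl⟩ := S.mem g (Subgroup.mem_centralizer_singleton_iff.1 hgt)
      have hm3 : m * m3 = m3 * m := S.inj (by rw [map_mul, map_mul]; exact hOy _ hgO)
      refine ⟨⟨m, hm3, cent_m3_odd_v m hm3 (orders m) ?_⟩, rfl⟩
      rw [← orderOf_injective S.emb S.inj]
      exact hX _ hgO
  have fix1 : ∀ g ∈ O, g * S.t = S.t * g → g * S.v = S.v * g → g = 1 := by
    intro g hgO hgt hgv
    obtain ⟨m, rfl⟩ := S.mem g hgt
    have hm3 : m * m3 = m3 * m := S.inj (by rw [map_mul, map_mul]; exact hOy _ hgO)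
    rw [cent_y3_v m hm3 (cent_m3_odd_v m hm3 (orders m) (by
      rw [← orderOf_injective S.emb S.inj]; exact hX _ hgO))
      (S.inj (by rw [map_mul, map_mul]; exact hgv)), map_one]
  -- fixed points of `v` and `tv` are inverted by `t`
  have inv_of : ∀ u : G, u * S.t = S.t * u → (∀ g ∈ O, u * g * u⁻¹ ∈ O) →
      (∀ g ∈ O, g * S.t = S.t * g → g * u = u * g → g = 1) →
      ∀ g ∈ O ⊓ Subgroup.centralizer ({u} : Set G), S.t * g * S.t⁻¹ = g⁻¹ := by
    intro u hut hnu huniq g hg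
    obtain ⟨hgO, hgu⟩ := Subgroup.mem_inf.1 hg
    rw [Subgroup.mem_centralizer_singleton_iff] at hgu
    obtain ⟨⟨c, z⟩, ⟨hc, hz, rfl⟩, huni⟩ := H66.inverted_factor hX tt nt hgO
    simp only [] at hc hz hgu ⊢
    obtain ⟨hcO, hct⟩ := Subgroup.mem_inf.1 hc
    rw [Subgroup.mem_centralizer_singleton_iff] at hct
    have hcomm : ∀ w, u * (S.t * w * S.t⁻¹) * u⁻¹ = S.t * (u * w * u⁻¹) * S.t⁻¹ := fun w => by
      calc u * (S.t * w * S.t⁻¹) * u⁻¹ = (u * S.t) * w * (u * S.t)⁻¹ := by group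
        _ = _ := by rw [hut]; group
    have e := huni (u * c * u⁻¹, u * z * u⁻¹) ⟨Subgroup.mem_inf.2 ⟨hnu c hcO, ?_⟩,
      ⟨hnu z hz.1, ?_⟩, ?_⟩
    · simp only [Prod.mk.injEq] at e
      have hc1 : c = 1 := huniq c hcO hct (mul_inv_eq_iff_eq_mul.1 e.1).symm
      rw [hc1, one_mul]
      exact hz.2
    · rw [Subgroup.mem_centralizer_singleton_iff, ← mul_inv_eq_iff_eq_mul]
      have hct' : S.t * c * S.t⁻¹ = c := by rw [← hct, mul_inv_cancel_right]
      have := hcomm c
      rw [hct'] at this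
      calc u * c * u⁻¹ * S.t * (u * c * u⁻¹)⁻¹
          = u * c * u⁻¹ * (S.t * (u * c * u⁻¹) * S.t⁻¹)⁻¹ * S.t := by group
        _ = S.t := by rw [← this]; group
    · rw [← hcomm, hz.2]; group
    · calc c * z = u * (c * z) * u⁻¹ := by rw [← hgu, mul_inv_cancel_right]
        _ = u * c * u⁻¹ * (u * z * u⁻¹) := by group
  have fix1' : ∀ g ∈ O, g * S.t = S.t * g → g * (S.t * S.v) = S.t * S.v * g → g = 1 := by
    intro g hgO hgt hgw
    refine fix1 g hgO hgt (mul_left_cancel (a := S.t) ?_)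
    rw [← mul_assoc, ← hgt, mul_assoc, hgw, mul_assoc]
  have iv := inv_of S.v S.t_comm_v.symm nv fix1
  have iw := inv_of (S.t * S.v) (by rw [mul_assoc, ← S.t_comm_v]) nw fix1'
  have abel : ∀ A : Subgroup G, (∀ g ∈ A, S.t * g * S.t⁻¹ = g⁻¹) → ∀ p ∈ A, ∀ q ∈ A, p * q = q * p := by
    intro A hA p hp q hq
    have h := hA _ (mul_mem hp hq)
    rw [H66.conj_mul_mul, hA p hp, hA q hq, mul_inv_rev] at h
    have := congrArg (fun r => r⁻¹) h
    simpa using this.symm
  set A := O ⊓ Subgroup.centralizer ({S.v} : Set G) with hA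
  set B := O ⊓ Subgroup.centralizer ({S.t * S.v} : Set G) with hB
  obtain ⟨gv, hgv⟩ := isConj_iff.1 (S.isConj_t S.v_sq.1 S.v_sq.2)
  obtain ⟨gw, hgw⟩ := isConj_iff.1 (S.isConj_t S.tv_sq.1 S.tv_sq.2)
  have hav := (S.conj gv).card_odd_abelian A (hOodd.of_dvd_nat (Subgroup.card_dvd_of_le inf_le_left))
    (abel A iv) (fun g hg => by
      rw [Setup.conj_t, hgv]; exact Subgroup.mem_centralizer_singleton_iff.1 (Subgroup.mem_inf.1 hg).2)
  have hbw := (S.conj gw).card_odd_abelian B (hOodd.of_dvd_nat (Subgroup.card_dvd_of_le inf_le_left))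
    (abel B iw) (fun g hg => by
      rw [Setup.conj_t, hgw]; exact Subgroup.mem_centralizer_singleton_iff.1 (Subgroup.mem_inf.1 hg).2)
  refine ⟨Nat.card A, Nat.card B, hav, hbw, ?_⟩
  -- order of `O`
  have hO : Nat.card O = 3 * (Nat.card A * Nat.card B) := by
    rw [H66.card_inverted_factor hX tt nt, fix3]
    congr 1
    have hσ : ∀ k ∈ Cfsg.invertedBy O S.t, (MulAut.conj S.v).toMonoidHom k ∈ Cfsg.invertedBy O S.t := by
      intro k hk
      refine ⟨nv k hk.1, ?_⟩
      show S.t * (S.v * k * S.v⁻¹) * S.t⁻¹ = (S.v * k * S.v⁻¹)⁻¹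
      calc S.t * (S.v * k * S.v⁻¹) * S.t⁻¹ = (S.t * S.v) * k * (S.t * S.v)⁻¹ := by group
        _ = S.v * (S.t * k * S.t⁻¹) * S.v⁻¹ := by rw [S.t_comm_v]; group
        _ = _ := by rw [hk.2]; group
    have hσ2 : ∀ k ∈ Cfsg.invertedBy O S.t,
        (MulAut.conj S.v).toMonoidHom ((MulAut.conj S.v).toMonoidHom k) = k := fun k _ => by
      show S.v * (S.v * k * S.v⁻¹) * S.v⁻¹ = k
      calc S.v * (S.v * k * S.v⁻¹) * S.v⁻¹ = (S.v * S.v) * k * (S.v * S.v)⁻¹ := by group
        _ = k := by rw [vv]; group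
    rw [(H66.invertedBy_oddTwisted hX S.t).card_factor _ hσ hσ2]
    congr 1
    · refine Nat.card_congr (Equiv.subtypeEquivRight fun g => ?_)
      rw [hA, Subgroup.mem_inf, Subgroup.mem_centralizer_singleton_iff]
      constructor
      · rintro ⟨hk, hfix⟩
        exact ⟨hk.1, (mul_inv_eq_iff_eq_mul.1 hfix).symm⟩
      · rintro ⟨h1, h2⟩
        exact ⟨⟨h1, iv g (Subgroup.mem_inf.2 ⟨h1, Subgroup.mem_centralizer_singleton_iff.2 h2⟩)⟩,
          by show S.v * g * S.v⁻¹ = g; rw [← h2, mul_inv_cancel_right]⟩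
    · refine Nat.card_congr (Equiv.subtypeEquivRight fun g => ?_)
      rw [hB, Subgroup.mem_inf, Subgroup.mem_centralizer_singleton_iff]
      constructor
      · rintro ⟨hk, hinv⟩
        refine ⟨hk.1, (mul_inv_eq_iff_eq_mul.1 ?_).symm⟩
        calc S.t * S.v * g * (S.t * S.v)⁻¹ = S.t * (S.v * g * S.v⁻¹) * S.t⁻¹ := by group
          _ = g := by
            rw [show S.v * g * S.v⁻¹ = g⁻¹ from hinv,
              show S.t * g⁻¹ * S.t⁻¹ = (S.t * g * S.t⁻¹)⁻¹ by group, hk.2, inv_inv]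
      · rintro ⟨h1, h2⟩
        have hg := iw g (Subgroup.mem_inf.2 ⟨h1, Subgroup.mem_centralizer_singleton_iff.2 h2⟩)
        refine ⟨⟨h1, hg⟩, ?_⟩
        show S.v * g * S.v⁻¹ = g⁻¹
        calc S.v * g * S.v⁻¹ = S.t⁻¹ * ((S.t * S.v) * g * (S.t * S.v)⁻¹) * S.t := by group
          _ = S.t⁻¹ * g * S.t := by rw [← h2, mul_inv_cancel_right]
          _ = g⁻¹ := by rw [inv_eq_of_mul_eq_one_right tt]; nth_rw 2 [← inv_eq_of_mul_eq_one_right tt]; exact hg
  refine ⟨by rw [hCcard, hO]; ring, ?_⟩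
  -- counting the inverting involutions
  have hv := H66.card_inverted_factor hX vv nv
  have hw := H66.card_inverted_factor hX ww nw
  rw [← hA, hO] at hv
  rw [← hB, hO] at hw
  have hapos : 0 < Nat.card A := Nat.card_pos
  have hbpos : 0 < Nat.card B := Nat.card_pos
  have hv' : Nat.card (Cfsg.invertedBy O S.v) = 3 * Nat.card B :=
    Nat.eq_of_mul_eq_mul_left hapos (hv.symm.trans (by ring))
  have hw' : Nat.card (Cfsg.invertedBy O (S.t * S.v)) = 3 * Nat.card A :=
    Nat.eq_of_mul_eq_mul_left hbpos (hw.symm.trans (by ring))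
  rw [show 3 * (Nat.card A + Nat.card B) = Nat.card (Cfsg.invertedBy O S.v ⊕
    Cfsg.invertedBy O (S.t * S.v)) by rw [Nat.card_sum, hv', hw']; ring]
  -- involutions of the form `o * u`
  have mk : ∀ u : G, u * u = 1 → u * S.y * u⁻¹ = S.y⁻¹ → ∀ o ∈ Cfsg.invertedBy O u,
      IsConj S.t (o * u) ∧ IsConj S.t (o * u * S.y) ∧ o * u * (o * u * S.y) = S.y := by
    intro u hu huy o ho
    have hui : u⁻¹ = u := inv_eq_of_mul_eq_one_right hu
    have hoy := hOy o ho.1
    have huo : o * u * (o * u) = 1 := by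
      have h2 : u * o * u⁻¹ = o⁻¹ := ho.2
      rw [hui] at h2
      rw [show o * u * (o * u) = o * (u * o * u) by group, h2, mul_inv_cancel]
    have huy' : u * S.y * u = S.y⁻¹ := by rw [← huy, hui]
    have hinv : o * u * S.y * (o * u)⁻¹ = S.y⁻¹ := by
      rw [show o * u * S.y * (o * u)⁻¹ = o * (u * S.y * u⁻¹) * o⁻¹ by group, huy]
      have : Commute o S.y⁻¹ := (show Commute o S.y from hoy).inv_right
      rw [this.eq, mul_inv_cancel_right]
    have ne1 : o * u ≠ 1 := by
      intro h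
      rw [h, one_mul, inv_one, mul_one] at hinv
      have : S.y ^ 2 = 1 := by rw [pow_two]; nth_rw 2 [hinv]; exact mul_inv_cancel _
      have h3 := S.y_facts.1
      rw [pow_succ, this, one_mul] at h3
      exact S.y_facts.2 h3
    refine ⟨S.invol_iff.2 ⟨by rw [pow_two, huo], ne1⟩, S.invol_iff.2 ⟨?_, ?_⟩, ?_⟩
    · rw [pow_two]
      have e : (o * u)⁻¹ = o * u := inv_eq_of_mul_eq_one_right huo
      rw [e] at hinv
      rw [show o * u * S.y * (o * u * S.y) = (o * u * S.y * (o * u)) * S.y by group, hinv,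
        inv_mul_cancel]
    · intro h
      have hy1 : o * u = S.y⁻¹ := eq_inv_of_mul_eq_one_left h
      rw [hy1] at huo
      have : S.y ^ 2 = 1 := by
        rw [pow_two, ← inv_inv (S.y * S.y), mul_inv_rev, huo, inv_one]
      have h3 := S.y_facts.1
      rw [pow_succ, this, one_mul] at h3
      exact S.y_facts.2 h3
    · rw [← mul_assoc, huo, one_mul]
  have hwy : S.t * S.v * S.y * (S.t * S.v)⁻¹ = S.y⁻¹ := by
    calc S.t * S.v * S.y * (S.t * S.v)⁻¹ = S.t * (S.v * S.y * S.v⁻¹) * S.t⁻¹ := by group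
      _ = S.y⁻¹ := by
        rw [S.v_inv]
        have : Commute S.t S.y⁻¹ := (show Commute S.t S.y from S.t_comm_y).inv_right
        rw [this.eq, mul_inv_cancel_right]
  symm
  refine Nat.card_eq_of_bijective (Sum.elim
    (fun o => ⟨(o.1 * S.v, o.1 * S.v * S.y), mk S.v vv S.v_inv o.1 o.2⟩)
    (fun o => ⟨(o.1 * (S.t * S.v), o.1 * (S.t * S.v) * S.y), mk _ ww hwy o.1 o.2⟩)) ⟨?_, ?_⟩
  · have htO : S.t ∉ O := fun h => by
      have := hX _ h
      rw [S.orderOf_t] at this
      norm_num at this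
    rintro (p | p) (q | q) h
    all_goals have h1 := congrArg (fun r => r.1.1) h
    all_goals simp only [Sum.elim_inl, Sum.elim_inr] at h1
    · exact congrArg Sum.inl (Subtype.ext (mul_right_cancel h1))
    · refine absurd ?_ htO
      rw [← mul_assoc] at h1
      have := mul_right_cancel h1
      rw [show S.t = q.1⁻¹ * p.1 by rw [this]; group]
      exact mul_mem (inv_mem q.2.1) p.2.1
    · refine absurd ?_ htO
      rw [← mul_assoc] at h1
      have := mul_right_cancel h1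
      rw [show S.t = p.1⁻¹ * q.1 by rw [← this]; group]
      exact mul_mem (inv_mem p.2.1) q.2.1
    · exact congrArg Sum.inr (Subtype.ext (mul_right_cancel h1))
  · rintro ⟨⟨p, q⟩, hp', hq', hpq⟩
    have hp : p ^ 2 = 1 ∧ p ≠ 1 := S.invol_iff.1 hp'
    have hq : q ^ 2 = 1 ∧ q ≠ 1 := S.invol_iff.1 hq'
    simp only [] at hpq
    have hpp := mul_self_of_sq hp.1
    have hqv : q = p * S.y := by rw [← hpq, ← mul_assoc, hpp, one_mul]
    have hpinv : p * S.y * p⁻¹ = S.y⁻¹ := by
      rw [← hpq, mul_inv_rev, inv_eq_of_mul_eq_one_right (mul_self_of_sq hq.1),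
        inv_eq_of_mul_eq_one_right hpp, ← mul_assoc, hpp, one_mul]
    have hcy : p * S.v * S.y = S.y * (p * S.v) := by
      have h1 : S.v * S.y = S.y⁻¹ * S.v := mul_inv_eq_iff_eq_mul.1 S.v_inv
      have h2 : p * S.y⁻¹ = S.y * p := by
        have : p * S.y⁻¹ * p⁻¹ = S.y := by
          rw [show p * S.y⁻¹ * p⁻¹ = (p * S.y * p⁻¹)⁻¹ by group, hpinv, inv_inv]
        exact mul_inv_eq_iff_eq_mul.1 this
      rw [mul_assoc, h1, ← mul_assoc, h2, mul_assoc]
    have invof : ∀ u o : G, u * u = 1 → p = o * u → u * o * u⁻¹ = o⁻¹ := by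
      intro u o hu hpo
      rw [hpo] at hpp
      rw [inv_eq_of_mul_eq_one_right hu]
      exact (inv_eq_of_mul_eq_one_right (show o * (u * o * u) = 1 by rw [← hpp]; group)).symm
    rcases hsplit _ hcy with h | h
    · have e : p = p * S.v * S.v := by rw [mul_assoc, vv, mul_one]
      refine ⟨Sum.inl ⟨p * S.v, h, invof _ _ vv e⟩, Subtype.ext (Prod.ext e.symm ?_)⟩
      show p * S.v * S.v * S.y = q
      rw [← e, hqv]
    · have e : p = p * S.v * S.t * (S.t * S.v) := by
        rw [show p * S.v * S.t * (S.t * S.v) = p * (S.v * (S.t * S.t) * S.v) by group, tt, mul_one,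
          vv, mul_one]
      refine ⟨Sum.inr ⟨p * S.v * S.t, h, invof _ _ ww e⟩, Subtype.ext (Prod.ext e.symm ?_)⟩
      show p * S.v * S.t * (S.t * S.v) * S.y = q
      rw [← e, hqv]

end H16.J1
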