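import Cfsg.Agent.H16.Janko1.Rows

/-!
The possible orders determined by the integral rows.
-/

set_option autoImplicit false

namespace H16.J1

open Finset

variable {ι : Type*} [Fintype ι] {g : ℕ} (R : RowSys ι g)

/-- The exceptional configuration of rows surviving the arithmetic. -/
structure Spurious (R : RowSys ι g) where
  order : g = 189000
  c : ι
  a : ι
  b : ι
  p : ι
  p' : ι
  q : ι
  q' : ι
  row_c : R.e c = -1 ∧ R.x c = 1 ∧ R.y c = 1 ∧ R.D c = 15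
  row_a : R.e a = -1 ∧ R.x a = -1 ∧ R.y a = -1 ∧ R.D a = 35
  row_b : R.e b = 1 ∧ R.x b = 1 ∧ R.y b = 1 ∧ R.D b = 21
  row_p : R.e p = 1 ∧ R.x p = 1 ∧ R.y p = -1 ∧ R.D p = 35
  row_p' : R.e p' = -1 ∧ R.x p' = -1 ∧ R.y p' = 1 ∧ R.D p' = 21
  row_q : R.e q = 1 ∧ R.x q = -1 ∧ R.y q = 1 ∧ R.D q = 35
  row_q' : R.e q' = -1 ∧ R.x q' = 1 ∧ R.y q' = -1 ∧ R.D q' = 21
  sum8 : ∀ φ : ι → ℚ, (∀ i, R.e i = 0 → φ i = 0) →
    ∑ i, φ i = φ R.o + φ c + φ a + φ b + φ p + φ p' + φ q + φ q'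
  zero : ∀ i, R.e i = 0 → R.x i = 0 ∧ R.y i = 0

theorem pair_mem {S : Finset ι} {i : ι} (hS : S.card = 2) (hi : i ∈ S) :
    ∃ j, j ≠ i ∧ j ∈ S ∧ ∀ {K : Type} [AddCommMonoid K] (φ : ι → K), ∑ k ∈ S, φ k = φ i + φ j := by
  classical
  obtain ⟨a, b, hab, rfl⟩ := card_eq_two.1 hS
  rcases mem_insert.1 hi with rfl | hi
  · exact ⟨b, Ne.symm hab, by simp, fun φ => sum_pair hab⟩
  · rw [mem_singleton] at hi
    subst hi
    exact ⟨a, hab, by simp, fun φ => by rw [sum_pair hab, add_comm]⟩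

theorem div_sign {σ D : ℤ} (hσ : σ = 1 ∨ σ = -1) (c : ℚ) :
    c / (D : ℚ) * (σ : ℚ) = c / ((σ * D : ℤ) : ℚ) := by
  rcases hσ with rfl | rfl
  · simp
  · push_cast; rw [neg_one_mul, div_neg, mul_neg_one]

/-- Signed rows: the values attached to a row on the oriented line with vector `(u, v, w)`. -/
theorem signed_row {i : ι} {σ u v w : ℤ} (hσ : σ = 1 ∨ σ = -1) (he : R.e i = σ * u)
    (hx : R.x i = σ * v) (hy : R.y i = σ * w) (hne : u ≠ 0 ∨ v ≠ 0 ∨ w ≠ 0) :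
    (σ * R.D i - (3 * u + v + w)) % 8 = 0 ∧
    R.D i * R.e i = σ * R.D i * u ∧ R.D i * R.x i = σ * R.D i * v ∧
    R.D i * R.y i = σ * R.D i * w ∧
    ((R.F i : ℚ) * R.F i / R.D i * R.e i = ((3 * u + v + w : ℤ) : ℚ) * (3 * u + v + w : ℤ) /
      ((σ * R.D i : ℤ) : ℚ) * u) ∧
    ((R.F i : ℚ) * R.F i / R.D i * R.x i = ((3 * u + v + w : ℤ) : ℚ) * (3 * u + v + w : ℤ) /
      ((σ * R.D i : ℤ) : ℚ) * v) ∧
    ((R.F i : ℚ) * R.F i / R.D i * R.y i = ((3 * u + v + w : ℤ) : ℚ) * (3 * u + v + w : ℤ) /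
      ((σ * R.D i : ℤ) : ℚ) * w) ∧
    σ * R.D i ∣ (g : ℤ) ∧ (σ * R.D i) * (σ * R.D i) = R.D i * R.D i ∧
    (0 < σ * R.D i ∨ σ * R.D i ≤ -7 * (3 * u + v + w)) := by
  have hm : R.m i = 0 := R.m_zero (by
    rw [he, hx, hy]
    rcases hσ with rfl | rfl <;> omega)
  have hF : R.F i = σ * (3 * u + v + w) := by
    rw [RowSys.F, hm, he, hx, hy]; ring
  have hss : σ * σ = 1 := by rcases hσ with rfl | rfl <;> norm_num
  have hnn : 0 ≤ R.D i + 7 * R.F i := R.nonneg i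
  have hmod : (R.D i - R.F i) % 8 = 0 := R.mod8 i
  have key : ∀ c : ℤ, (R.F i : ℚ) * R.F i / R.D i * ((σ * c : ℤ) : ℚ) =
      ((3 * u + v + w : ℤ) : ℚ) * (3 * u + v + w : ℤ) / ((σ * R.D i : ℤ) : ℚ) * c := by
    intro c
    rw [← div_sign hσ, show (R.F i : ℚ) * R.F i = ((R.F i * R.F i : ℤ) : ℚ) by push_cast; ring, hF,
      show σ * (3 * u + v + w) * (σ * (3 * u + v + w)) = (3 * u + v + w) * (3 * u + v + w) by
        linear_combination (3 * u + v + w) * (3 * u + v + w) * hss]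
    push_cast
    ring
  refine ⟨?_, by rw [he]; ring, by rw [hx]; ring, by rw [hy]; ring, by rw [he]; exact key u,
    by rw [hx]; exact key v, by rw [hy]; exact key w, ?_, by linear_combination R.D i * R.D i * hss, ?_⟩
  · rcases hσ with rfl | rfl <;> omega
  · rcases hσ with rfl | rfl
    · simpa using R.dvd i
    · simpa using R.dvd i
  · have := R.pos i
    rcases hσ with rfl | rfl
    · left; omega
    · right; omega

theorem RowSys.sum_oddSet {K : Type*} [AddCommMonoid K] (φ : ι → K)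
    (h : ∀ i, R.e i % 2 = 0 → φ i = 0) : ∑ i, φ i = ∑ i ∈ R.oddSet, φ i :=
  (sum_subset (subset_univ _) fun i _ hi => h i (by
    simp only [RowSys.oddSet, mem_filter, mem_univ, true_and] at hi; omega)).symm

theorem evenSupp_empty {u : ι → ℤ} (h : evenSupp u = ∅) {i : ι} (h2 : u i % 2 = 0) : u i = 0 := by
  by_contra hne
  have : i ∈ evenSupp u := mem_filter.2 ⟨mem_univ _, h2, hne⟩
  simp [h] at this

theorem RowSys.eight_case (h8 : R.oddSet.card = 8) (he : evenSupp R.e = ∅) (hx : evenSupp R.x = ∅)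
    (hy : evenSupp R.y = ∅) (h120 : 120 ∣ g) (hodd : (g / 8) % 2 = 1) :
    g = 175560 ∨ Nonempty (Spurious R) := by
  classical
  have zero : ∀ i, R.e i % 2 = 0 → R.e i = 0 ∧ R.x i = 0 ∧ R.y i = 0 := fun i hi =>
    ⟨evenSupp_empty he hi, evenSupp_empty hx (by rw [← R.px]; exact hi),
      evenSupp_empty hy (by rw [← R.py]; exact hi)⟩
  have hcount : ∀ k, (R.line k).card = 2 := fun k => by
    have := R.line_counts
      (by rw [← R.sum_oddSet _ fun i hi => by rw [(zero i hi).1, zero_mul]]; exact R.sex)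
      (by rw [← R.sum_oddSet _ fun i hi => by rw [(zero i hi).1, zero_mul]]; exact R.sey)
      (by rw [← R.sum_oddSet _ fun i hi => by rw [(zero i hi).2.1, zero_mul]]; exact R.sxy) k
    rw [h8] at this
    omega
  have ho : R.o ∈ R.line 0 := mem_filter.2 ⟨mem_filter.2 ⟨mem_univ _, by rw [R.oe]; norm_num⟩,
    by rw [R.oe, R.ox, R.oy]; rfl⟩
  obtain ⟨c, hco, hc, sc⟩ := pair_mem (hcount 0) ho
  obtain ⟨a, ha⟩ : (R.line 1).Nonempty := card_pos.1 (by rw [hcount]; norm_num)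
  obtain ⟨b, hba, hb, sb⟩ := pair_mem (hcount 1) ha
  obtain ⟨p, hp⟩ : (R.line 2).Nonempty := card_pos.1 (by rw [hcount]; norm_num)
  obtain ⟨p', hpp, hp', sp⟩ := pair_mem (hcount 2) hp
  obtain ⟨q, hq⟩ : (R.line 3).Nonempty := card_pos.1 (by rw [hcount]; norm_num)
  obtain ⟨q', hqq, hq', sq'⟩ := pair_mem (hcount 3) hq
  have sum8 : ∀ φ : ι → ℚ, (∀ i, R.e i % 2 = 0 → φ i = 0) →
      ∑ i, φ i = φ R.o + φ c + φ a + φ b + φ p + φ p' + φ q + φ q' := fun φ hφ => by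
    rw [R.sum_oddSet φ hφ, R.sum_lines, Fin.sum_univ_four, sc, sb, sp, sq']
    ring
  obtain ⟨-, ec, xc, yc⟩ := R.mem_line hc
  obtain ⟨-, ea, xa, ya⟩ := R.mem_line ha
  obtain ⟨-, eb, xb, yb⟩ := R.mem_line hb
  obtain ⟨-, ep, xp, yp⟩ := R.mem_line hp
  obtain ⟨-, ep', xp', yp'⟩ := R.mem_line hp'
  obtain ⟨-, eq, xq, yq⟩ := R.mem_line hq
  obtain ⟨-, eq', xq', yq'⟩ := R.mem_line hq'
  simp only [pat, Matrix.cons_val_zero, Matrix.cons_val_one, Matrix.cons_val] at xc yc xa ya xb yb xp yp xp' yp' xq yq xq' yq'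
  obtain ⟨co, oe, ox, oy, fe0, fx0, fy0, -, qo, -⟩ := signed_row R (i := R.o) (σ := 1) (u := 1)
    (v := -1) (w := -1) (Or.inl rfl) (by rw [R.oe]; norm_num) (by rw [R.ox]; norm_num)
    (by rw [R.oy]; norm_num) (Or.inl one_ne_zero)
  obtain ⟨mc, ce, cx, cy, fec, fxc, fyc, vc, qc, -⟩ := signed_row R (i := c) (σ := R.e c) (u := 1)
    (v := -1) (w := -1) ec (by ring) (by rw [xc]; ring) (by rw [yc]; ring) (Or.inl one_ne_zero)
  obtain ⟨ma, ae, ax, ay, fea, fxa, fya, va, qa, -⟩ := signed_row R (i := a) (σ := R.e a) (u := 1)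
    (v := 1) (w := 1) ea (by ring) (by rw [xa]; ring) (by rw [ya]; ring) (Or.inl one_ne_zero)
  obtain ⟨mb, be, bx, by', feb, fxb, fyb, vb, qb, -⟩ := signed_row R (i := b) (σ := R.e b) (u := 1)
    (v := 1) (w := 1) eb (by ring) (by rw [xb]; ring) (by rw [yb]; ring) (Or.inl one_ne_zero)
  obtain ⟨mp, pe, px, py, fep, fxp, fyp, -, qp, -⟩ := signed_row R (i := p) (σ := -R.e p) (u := -1)
    (v := -1) (w := 1) (by omega) (by ring) (by rw [xp]; ring) (by rw [yp]; ring)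
    (Or.inl (by norm_num))
  obtain ⟨mp', pe', px', py', fep', fxp', fyp', -, qp', -⟩ := signed_row R (i := p') (σ := -R.e p')
    (u := -1) (v := -1) (w := 1) (by omega) (by ring) (by rw [xp']; ring) (by rw [yp']; ring)
    (Or.inl (by norm_num))
  obtain ⟨mq, qe, qx, qy, feq, fxq, fyq, -, qq, -⟩ := signed_row R (i := q) (σ := -R.e q) (u := -1)
    (v := 1) (w := -1) (by omega) (by ring) (by rw [xq]; ring) (by rw [yq]; ring)
    (Or.inl (by norm_num))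
  obtain ⟨mq', qe', qx', qy', feq', fxq', fyq', -, qq', -⟩ := signed_row R (i := q') (σ := -R.e q')
    (u := -1) (v := 1) (w := -1) (by omega) (by ring) (by rw [xq']; ring) (by rw [yq']; ring)
    (Or.inl (by norm_num))
  generalize hC : R.e c * R.D c = C at mc ce cx cy fec fxc fyc vc qc
  generalize hA : R.e a * R.D a = A at ma ae ax ay fea fxa fya va qa
  generalize hB : R.e b * R.D b = B at mb be bx by' feb fxb fyb vb qb
  generalize hP : -R.e p * R.D p = P at mp pe px py fep fxp fyp qp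
  generalize hP' : -R.e p' * R.D p' = P' at mp' pe' px' py' fep' fxp' fyp' qp'
  generalize hQ : -R.e q * R.D q = Q at mq qe qx qy feq fxq fyq qq
  generalize hQ' : -R.e q' * R.D q' = Q' at mq' qe' qx' qy' feq' fxq' fyq' qq'
  rw [R.oD] at oe ox oy fe0 fx0 fy0
  have dsum : ∀ u : ι → ℤ, (∀ i, R.e i % 2 = 0 → u i = 0) → ∑ i, R.D i * u i = 0 →
      R.D R.o * u R.o + R.D c * u c + R.D a * u a + R.D b * u b + R.D p * u p + R.D p' * u p' +
        R.D q * u q + R.D q' * u q' = 0 := by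
    intro u hu h0
    have h := sum8 (fun i => ((R.D i * u i : ℤ) : ℚ)) fun i hi => by simp [hu i hi]
    rw [← Int.cast_sum, h0] at h
    exact_mod_cast h.symm
  have d1 := dsum R.e (fun i hi => (zero i hi).1) R.de
  have d2 := dsum R.x (fun i hi => (zero i hi).2.1) R.dx
  have d3 := dsum R.y (fun i hi => (zero i hi).2.2) R.dy
  rw [R.oD, ce, ae, be, pe, pe', qe, qe'] at d1
  rw [R.oD, cx, ax, bx, px, px', qx, qx'] at d2
  rw [R.oD, cy, ay, by', py, py', qy, qy'] at d3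
  rw [R.oe] at d1
  rw [R.ox] at d2
  rw [R.oy] at d3
  have s1 := sum8 (fun i => (R.F i : ℚ) * R.F i / R.D i * R.e i) fun i hi => by simp [(zero i hi).1]
  have s2 := sum8 (fun i => (R.F i : ℚ) * R.F i / R.D i * R.x i) fun i hi => by simp [(zero i hi).2.1]
  have s3 := sum8 (fun i => (R.F i : ℚ) * R.F i / R.D i * R.y i) fun i hi => by simp [(zero i hi).2.2]
  simp only [fec, fea, feb, fep, fep', feq, feq', fe0, R.oD] at s1
  simp only [fxc, fxa, fxb, fxp, fxp', fxq, fxq', fx0, R.oD] at s2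
  simp only [fyc, fya, fyb, fyp, fyp', fyq, fyq', fy0, R.oD] at s3
  simp only [RowSys.F] at s1 s2 s3
  rw [R.ste] at s1
  rw [R.stx] at s2
  rw [R.sty] at s3
  push_cast at s1 s2 s3
  norm_num at s1 s2 s3
  have hg0 : g ≠ 0 := by intro h; rw [h] at hodd; simp at hodd
  have hX : (g : ℚ) * ((1 + 1 / (C : ℚ)) - (25 / (A : ℚ) + 25 / (B : ℚ))) = 86400 := by
    rw [show (1 + 1 / (C : ℚ)) - (25 / (A : ℚ) + 25 / (B : ℚ)) = 6 * (14400 / (g : ℚ)) by
      linear_combination (1 / 2 : ℚ) * s2 + (1 / 2 : ℚ) * s3]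
    field_simp
    norm_num
  have hsq : 1 + C * C + A * A + B * B + P * P + P' * P' + Q * Q + Q' * Q' ≤ (g : ℤ) := by
    have h := sum8 (fun i => if R.e i % 2 = 1 then ((R.D i * R.D i : ℤ) : ℚ) else 0)
      fun i hi => by simp [hi]
    have hle : (∑ i, if R.e i % 2 = 1 then ((R.D i * R.D i : ℤ) : ℚ) else 0) ≤ (g : ℚ) := by
      rw [show (g : ℚ) = ∑ i, ((R.D i * R.D i : ℤ) : ℚ) by rw [← Int.cast_sum, R.sq]; simp]
      exact sum_le_sum fun i _ => by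
        split_ifs
        · exact le_rfl
        · exact_mod_cast mul_self_nonneg (R.D i)
    have odd1 : ∀ {i : ι}, (R.e i = 1 ∨ R.e i = -1) → R.e i % 2 = 1 := fun h => by omega
    rw [h, if_pos (odd1 (Or.inl R.oe)), if_pos (odd1 ec), if_pos (odd1 ea), if_pos (odd1 eb),
      if_pos (odd1 ep), if_pos (odd1 ep'), if_pos (odd1 eq), if_pos (odd1 eq'), R.oD, ← qc, ← qa,
      ← qb, ← qp, ← qp', ← qq, ← qq'] at hle
    exact_mod_cast (by push_cast at hle ⊢; linarith : (((1 + C * C + A * A + B * B + P * P + P' * P' +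
      Q * Q + Q' * Q' : ℤ)) : ℚ) ≤ (g : ℚ))
  have hP2 : P + P' = A + B := by linarith
  have hQ2 : Q + Q' = A + B := by linarith
  have hCv : C = A + B - 1 := by linarith
  have hdvdC : C ∣ (g : ℤ) := vc
  have hR : 2 * (9 / (P : ℚ) + 9 / (P' : ℚ)) = (1 + 1 / (C : ℚ)) + (25 / (A : ℚ) + 25 / (B : ℚ)) -
      14 * (14400 / (g : ℚ)) := by
    linear_combination s1 + (1 / 2 : ℚ) * s2 - (1 / 2 : ℚ) * s3
  have hR' : 2 * (9 / (Q : ℚ) + 9 / (Q' : ℚ)) = (1 + 1 / (C : ℚ)) + (25 / (A : ℚ) + 25 / (B : ℚ)) -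
      14 * (14400 / (g : ℚ)) := by
    linear_combination s1 - (1 / 2 : ℚ) * s2 + (1 / 2 : ℚ) * s3
  have hlt : A * A + B * B + C * C < (g : ℤ) := by nlinarith
  rcases eight_solution (A := A) (B := B) (C := C) (P := P) (P' := P') (by omega) (by omega)
    (by omega) (by omega) hCv hP2 hX hR h120 hodd va vb hdvdC hlt with h | ⟨hg, hAB, hPP⟩
  · exact Or.inl h
  obtain hQQ : (Q = -35 ∧ Q' = 21) ∨ (Q = 21 ∧ Q' = -35) := by
    rcases eight_solution (A := A) (B := B) (C := C) (P := Q) (P' := Q') (by omega) (by omega)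
      (by omega) (by omega) hCv hQ2 hX hR' h120 hodd va vb hdvdC hlt with h | ⟨-, -, h⟩
    · omega
    · exact h
  right
  have sum8' : ∀ φ : ι → ℚ, (∀ i, R.e i = 0 → φ i = 0) →
      ∑ i, φ i = φ R.o + φ c + φ a + φ b + φ p + φ p' + φ q + φ q' := fun φ hφ =>
    sum8 φ fun i hi => hφ i (zero i hi).1
  have zero' : ∀ i, R.e i = 0 → R.x i = 0 ∧ R.y i = 0 := fun i hi =>
    (zero i (by omega)).2
  have pick : ∀ {i : ι} {s D : ℤ}, (R.e i = 1 ∨ R.e i = -1) → R.e i * R.D i = s * D → (s = 1 ∨ s = -1) →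
      0 < D → R.e i = s ∧ R.D i = D := by
    intro i s D hei h hs hD
    have := R.pos i
    rcases hei with e | e <;> rcases hs with rfl | rfl <;> rw [e] at h ⊢ <;> omega
  obtain ⟨e_c, D_c⟩ := pick (s := -1) (D := 15) ec (by omega) (Or.inr rfl) (by norm_num)
  -- order each of the three pairs
  obtain ⟨a₁, b₁, ⟨h1, h2, h3, h4⟩, ⟨k1, k2, k3, k4⟩, hab1⟩ : ∃ a₁ b₁ : ι,
      (R.e a₁ = -1 ∧ R.x a₁ = -1 ∧ R.y a₁ = -1 ∧ R.D a₁ = 35) ∧
      (R.e b₁ = 1 ∧ R.x b₁ = 1 ∧ R.y b₁ = 1 ∧ R.D b₁ = 21) ∧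
      ∀ φ : ι → ℚ, φ a + φ b = φ a₁ + φ b₁ := by
    rcases hAB with ⟨u, v⟩ | ⟨u, v⟩
    · obtain ⟨i1, i2⟩ := pick (s := -1) (D := 35) ea (by omega) (Or.inr rfl) (by norm_num)
      obtain ⟨j1, j2⟩ := pick (s := 1) (D := 21) eb (by omega) (Or.inl rfl) (by norm_num)
      exact ⟨a, b, ⟨i1, by omega, by omega, i2⟩, ⟨j1, by omega, by omega, j2⟩, fun φ => rfl⟩
    · obtain ⟨i1, i2⟩ := pick (s := 1) (D := 21) ea (by omega) (Or.inl rfl) (by norm_num)
      obtain ⟨j1, j2⟩ := pick (s := -1) (D := 35) eb (by omega) (Or.inr rfl) (by norm_num)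
      exact ⟨b, a, ⟨j1, by omega, by omega, j2⟩, ⟨i1, by omega, by omega, i2⟩, fun φ => add_comm _ _⟩
  obtain ⟨p₁, p₂, hp1, hp2, hpsum⟩ : ∃ p₁ p₂ : ι,
      (R.e p₁ = 1 ∧ R.x p₁ = 1 ∧ R.y p₁ = -1 ∧ R.D p₁ = 35) ∧
      (R.e p₂ = -1 ∧ R.x p₂ = -1 ∧ R.y p₂ = 1 ∧ R.D p₂ = 21) ∧
      ∀ φ : ι → ℚ, φ p + φ p' = φ p₁ + φ p₂ := by
    rw [neg_mul] at hP hP'
    rcases hPP with ⟨u, v⟩ | ⟨u, v⟩
    · obtain ⟨i1, i2⟩ := pick (s := 1) (D := 35) ep (by omega) (Or.inl rfl) (by norm_num)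
      obtain ⟨j1, j2⟩ := pick (s := -1) (D := 21) ep' (by omega) (Or.inr rfl) (by norm_num)
      exact ⟨p, p', ⟨i1, by omega, by omega, i2⟩, ⟨j1, by omega, by omega, j2⟩, fun φ => rfl⟩
    · obtain ⟨i1, i2⟩ := pick (s := -1) (D := 21) ep (by omega) (Or.inr rfl) (by norm_num)
      obtain ⟨j1, j2⟩ := pick (s := 1) (D := 35) ep' (by omega) (Or.inl rfl) (by norm_num)
      exact ⟨p', p, ⟨j1, by omega, by omega, j2⟩, ⟨i1, by omega, by omega, i2⟩, fun φ => add_comm _ _⟩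
  obtain ⟨q₁, q₂, hq1, hq2, hqsum⟩ : ∃ q₁ q₂ : ι,
      (R.e q₁ = 1 ∧ R.x q₁ = -1 ∧ R.y q₁ = 1 ∧ R.D q₁ = 35) ∧
      (R.e q₂ = -1 ∧ R.x q₂ = 1 ∧ R.y q₂ = -1 ∧ R.D q₂ = 21) ∧
      ∀ φ : ι → ℚ, φ q + φ q' = φ q₁ + φ q₂ := by
    rw [neg_mul] at hQ hQ'
    rcases hQQ with ⟨u, v⟩ | ⟨u, v⟩
    · obtain ⟨i1, i2⟩ := pick (s := 1) (D := 35) eq (by omega) (Or.inl rfl) (by norm_num)
      obtain ⟨j1, j2⟩ := pick (s := -1) (D := 21) eq' (by omega) (Or.inr rfl) (by norm_num)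
      exact ⟨q, q', ⟨i1, by omega, by omega, i2⟩, ⟨j1, by omega, by omega, j2⟩, fun φ => rfl⟩
    · obtain ⟨i1, i2⟩ := pick (s := -1) (D := 21) eq (by omega) (Or.inr rfl) (by norm_num)
      obtain ⟨j1, j2⟩ := pick (s := 1) (D := 35) eq' (by omega) (Or.inl rfl) (by norm_num)
      exact ⟨q', q, ⟨j1, by omega, by omega, j2⟩, ⟨i1, by omega, by omega, i2⟩, fun φ => add_comm _ _⟩
  exact ⟨⟨hg, c, a₁, b₁, p₁, p₂, q₁, q₂, ⟨e_c, by omega, by omega, D_c⟩, ⟨h1, h2, h3, h4⟩,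
    ⟨k1, k2, k3, k4⟩, hp1, hp2, hq1, hq2, fun φ hφ => by
      rw [sum8' φ hφ]; linarith [hab1 φ, hpsum φ, hqsum φ], zero'⟩⟩

theorem RowSys.four_case (h4 : R.oddSet.card = 4) (he : (evenSupp R.e).card = 1)
    (hx : (evenSupp R.x).card = 1) (hy : (evenSupp R.y).card = 1) : False := by
  classical
  obtain ⟨iE, hE⟩ := card_eq_one.1 he
  obtain ⟨iX, hX⟩ := card_eq_one.1 hx
  obtain ⟨iY, hY⟩ := card_eq_one.1 hy
  have mem : ∀ (u : ι → ℤ) (i₁ : ι), evenSupp u = {i₁} → (u i₁ % 2 = 0 ∧ u i₁ ≠ 0) ∧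
      ∀ k, k ≠ i₁ → u k % 2 = 0 → u k = 0 := by
    intro u i₁ h
    refine ⟨(mem_filter.1 (h ▸ mem_singleton_self i₁ : i₁ ∈ evenSupp u)).2, fun k hk h2 => ?_⟩
    by_contra hne
    have : k ∈ ({i₁} : Finset ι) := h ▸ mem_filter.2 ⟨mem_univ _, h2, hne⟩
    exact hk (mem_singleton.1 this)
  obtain ⟨⟨eE, nE⟩, zE⟩ := mem _ _ hE
  obtain ⟨⟨eX, nX⟩, zX⟩ := mem _ _ hX
  obtain ⟨⟨eY, nY⟩, zY⟩ := mem _ _ hY
  have hEX : iE ≠ iX := fun h => no_shared R.e R.x R.D R.see R.sxx R.sex R.de R.dx R.pos R.px h4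
    eE nE (h ▸ nX)
  have hEY : iE ≠ iY := fun h => no_shared R.e R.y R.D R.see R.syy R.sey R.de R.dy R.pos R.py h4
    eE nE (h ▸ nY)
  have hXY : iX ≠ iY := fun h => no_shared R.x R.y R.D R.sxx R.syy R.sxy R.dx R.dy R.pos
    (fun i => (R.px i).symm.trans (R.py i)) (by rw [R.oddSet_x]; exact h4) eX nX (h ▸ nY)
  have ex0 : ∀ i, R.e i % 2 = 0 → R.e i * R.x i = 0 := fun i hi => by
    by_cases h : i = iE
    · rw [h, zX iE hEX (by rw [← R.px]; exact eE), mul_zero]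
    · rw [zE i h hi, zero_mul]
  have ey0 : ∀ i, R.e i % 2 = 0 → R.e i * R.y i = 0 := fun i hi => by
    by_cases h : i = iE
    · rw [h, zY iE hEY (by rw [← R.py]; exact eE), mul_zero]
    · rw [zE i h hi, zero_mul]
  have xy0 : ∀ i, R.e i % 2 = 0 → R.x i * R.y i = 0 := fun i hi => by
    by_cases h : i = iX
    · rw [h, zY iX hXY (by rw [← R.py, R.px]; exact eX), mul_zero]
    · rw [zX i h (by rw [← R.px]; exact hi), zero_mul]
  have hcount : ∀ k, (R.line k).card = 1 := fun k => by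
    have := R.line_counts (by rw [← R.sum_oddSet _ ex0]; exact R.sex)
      (by rw [← R.sum_oddSet _ ey0]; exact R.sey) (by rw [← R.sum_oddSet _ xy0]; exact R.sxy) k
    rw [h4] at this
    omega
  have ho : R.o ∈ R.line 0 := mem_filter.2 ⟨mem_filter.2 ⟨mem_univ _, by rw [R.oe]; norm_num⟩,
    by rw [R.oe, R.ox, R.oy]; rfl⟩
  have l0 : R.line 0 = {R.o} :=
    (eq_of_subset_of_card_le (singleton_subset_iff.2 ho) (by rw [hcount, card_singleton])).symm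
  obtain ⟨a, la⟩ := card_eq_one.1 (hcount 1)
  obtain ⟨p, lp⟩ := card_eq_one.1 (hcount 2)
  obtain ⟨q, lq⟩ := card_eq_one.1 (hcount 3)
  obtain ⟨-, ea, xa, ya⟩ := R.mem_line (k := 1) (i := a) (by rw [la]; exact mem_singleton_self a)
  obtain ⟨-, ep, xp, yp⟩ := R.mem_line (k := 2) (i := p) (by rw [lp]; exact mem_singleton_self p)
  obtain ⟨-, eq, xq, yq⟩ := R.mem_line (k := 3) (i := q) (by rw [lq]; exact mem_singleton_self q)
  simp only [pat, Matrix.cons_val_zero, Matrix.cons_val_one, Matrix.cons_val] at xa ya xp yp xq yq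
  have sum7 : ∀ φ : ι → ℚ, (∀ i, R.e i % 2 = 0 → i ≠ iE → i ≠ iX → i ≠ iY → φ i = 0) →
      ∑ i, φ i = φ R.o + φ a + φ p + φ q + φ iE + φ iX + φ iY := by
    intro φ hφ
    rw [← sum_filter_add_sum_filter_not univ (fun i => R.e i % 2 = 1) φ]
    have h1 : ∑ i ∈ univ.filter (fun i => R.e i % 2 = 1), φ i = φ R.o + φ a + φ p + φ q := by
      show ∑ i ∈ R.oddSet, φ i = _
      rw [R.sum_lines, Fin.sum_univ_four, l0, la, lp, lq, sum_singleton, sum_singleton,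
        sum_singleton, sum_singleton]
    have h2 : ∑ i ∈ univ.filter (fun i => ¬ R.e i % 2 = 1), φ i = φ iE + φ iX + φ iY := by
      rw [← sum_subset (s₁ := {iE, iX, iY})]
      · rw [sum_insert (by simp [hEX, hEY]), sum_pair hXY, add_assoc]
      · intro i hi
        simp only [mem_insert, mem_singleton] at hi
        refine mem_filter.2 ⟨mem_univ _, ?_⟩
        rcases hi with rfl | rfl | rfl
        · omega
        · rw [R.px]; omega
        · rw [R.py]; omega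
      · intro i hi hni
        simp only [mem_insert, mem_singleton, not_or] at hni
        exact hφ i (by have := (mem_filter.1 hi).2; omega) hni.1 hni.2.1 hni.2.2
    rw [h1, h2]; ring
  have zero : ∀ i, R.e i % 2 = 0 → i ≠ iE → i ≠ iX → i ≠ iY → R.e i = 0 ∧ R.x i = 0 ∧ R.y i = 0 :=
    fun i hi h1 h2 h3 => ⟨zE i h1 hi, zX i h2 (by rw [← R.px]; exact hi),
      zY i h3 (by rw [← R.py]; exact hi)⟩
  obtain ⟨σE, hσE, eEv⟩ : ∃ σ : ℤ, (σ = 1 ∨ σ = -1) ∧ R.e iE = σ * 2 := by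
    rcases two_of_even (R.e_small iE) eE with h | h | h
    · exact absurd h nE
    · exact ⟨1, Or.inl rfl, by omega⟩
    · exact ⟨-1, Or.inr rfl, by omega⟩
  obtain ⟨σX, hσX, eXv⟩ : ∃ σ : ℤ, (σ = 1 ∨ σ = -1) ∧ R.x iX = σ * 2 := by
    rcases two_of_even (R.x_small iX) eX with h | h | h
    · exact absurd h nX
    · exact ⟨1, Or.inl rfl, by omega⟩
    · exact ⟨-1, Or.inr rfl, by omega⟩
  obtain ⟨σY, hσY, eYv⟩ : ∃ σ : ℤ, (σ = 1 ∨ σ = -1) ∧ R.y iY = σ * 2 := by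
    rcases two_of_even (R.y_small iY) eY with h | h | h
    · exact absurd h nY
    · exact ⟨1, Or.inl rfl, by omega⟩
    · exact ⟨-1, Or.inr rfl, by omega⟩
  have evE : R.e iE % 2 = 0 := eE
  have evX : R.e iX % 2 = 0 := by rw [R.px]; exact eX
  have evY : R.e iY % 2 = 0 := by rw [R.py]; exact eY
  obtain ⟨-, oe, ox, oy, fe0, fx0, fy0, -, -, -⟩ := signed_row R (i := R.o) (σ := 1) (u := 1)
    (v := -1) (w := -1) (Or.inl rfl) (by rw [R.oe]; norm_num) (by rw [R.ox]; norm_num)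
    (by rw [R.oy]; norm_num) (Or.inl one_ne_zero)
  obtain ⟨ma, ae, ax, ay, fea, fxa, fya, -, -, -⟩ := signed_row R (i := a) (σ := R.e a) (u := 1)
    (v := 1) (w := 1) ea (by ring) (by rw [xa]; ring) (by rw [ya]; ring) (Or.inl one_ne_zero)
  obtain ⟨mp, pe, px, py, fep, fxp, fyp, -, -, -⟩ := signed_row R (i := p) (σ := -R.e p) (u := -1)
    (v := -1) (w := 1) (by omega) (by ring) (by rw [xp]; ring) (by rw [yp]; ring)
    (Or.inl (by norm_num))
  obtain ⟨mq, qe, qx, qy, feq, fxq, fyq, -, -, -⟩ := signed_row R (i := q) (σ := -R.e q) (u := -1)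
    (v := 1) (w := -1) (by omega) (by ring) (by rw [xq]; ring) (by rw [yq]; ring)
    (Or.inl (by norm_num))
  obtain ⟨mE, Ee, Ex, Ey, feE, fxE, fyE, -, -, -⟩ := signed_row R (i := iE) (σ := σE) (u := 2)
    (v := 0) (w := 0) hσE eEv (by rw [zX iE hEX (by rw [← R.px]; exact evE), mul_zero])
    (by rw [zY iE hEY (by rw [← R.py]; exact evE), mul_zero]) (Or.inl two_ne_zero)
  obtain ⟨mX, Xe, Xx, Xy, feX, fxX, fyX, -, -, iX'⟩ := signed_row R (i := iX) (σ := σX) (u := 0)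
    (v := 2) (w := 0) hσX (by rw [zE iX (Ne.symm hEX) evX, mul_zero]) eXv
    (by rw [zY iX hXY (by rw [← R.py]; exact evX), mul_zero]) (Or.inr (Or.inl two_ne_zero))
  obtain ⟨mY, Ye, Yx, Yy, feY, fxY, fyY, -, -, iY'⟩ := signed_row R (i := iY) (σ := σY) (u := 0)
    (v := 0) (w := 2) hσY (by rw [zE iY (Ne.symm hEY) evY, mul_zero])
    (by rw [zX iY (Ne.symm hXY) (by rw [← R.px]; exact evY), mul_zero]) eYv
    (Or.inr (Or.inr two_ne_zero))
  have dsum : ∀ u : ι → ℤ, (∀ i, R.e i % 2 = 0 → i ≠ iE → i ≠ iX → i ≠ iY → u i = 0) →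
      ∑ i, R.D i * u i = 0 → R.D R.o * u R.o + R.D a * u a + R.D p * u p + R.D q * u q +
        R.D iE * u iE + R.D iX * u iX + R.D iY * u iY = 0 := by
    intro u hu h0
    have h := sum7 (fun i => ((R.D i * u i : ℤ) : ℚ)) fun i h1 h2 h3 h4 => by simp [hu i h1 h2 h3 h4]
    rw [← Int.cast_sum, h0] at h
    exact_mod_cast h.symm
  have d1 := dsum R.e (fun i h1 h2 h3 h4 => (zero i h1 h2 h3 h4).1) R.de
  have d2 := dsum R.x (fun i h1 h2 h3 h4 => (zero i h1 h2 h3 h4).2.1) R.dx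
  have d3 := dsum R.y (fun i h1 h2 h3 h4 => (zero i h1 h2 h3 h4).2.2) R.dy
  have s1 := sum7 (fun i => (R.F i : ℚ) * R.F i / R.D i * R.e i) fun i h1 h2 h3 h4 => by
    simp [(zero i h1 h2 h3 h4).1]
  have s2 := sum7 (fun i => (R.F i : ℚ) * R.F i / R.D i * R.x i) fun i h1 h2 h3 h4 => by
    simp [(zero i h1 h2 h3 h4).2.1]
  have s3 := sum7 (fun i => (R.F i : ℚ) * R.F i / R.D i * R.y i) fun i h1 h2 h3 h4 => by
    simp [(zero i h1 h2 h3 h4).2.2]
  rw [R.oD] at oe ox oy fe0 fx0 fy0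
  rw [R.oD, R.oe, ae, pe, qe, Ee, Xe, Ye] at d1
  rw [R.oD, R.ox, ax, px, qx, Ex, Xx, Yx] at d2
  rw [R.oD, R.oy, ay, py, qy, Ey, Xy, Yy] at d3
  simp only [fe0, fea, fep, feq, feE, feX, feY, R.oD] at s1
  simp only [fx0, fxa, fxp, fxq, fxE, fxX, fxY, R.oD] at s2
  simp only [fy0, fya, fyp, fyq, fyE, fyX, fyY, R.oD] at s3
  simp only [RowSys.F] at s1 s2 s3
  rw [R.ste] at s1
  rw [R.stx] at s2
  rw [R.sty] at s3
  generalize R.e a * R.D a = A at *
  generalize -R.e p * R.D p = P at *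
  generalize -R.e q * R.D q = Q at *
  generalize σE * R.D iE = E at *
  generalize σX * R.D iX = X at *
  generalize σY * R.D iY = Y at *
  norm_num at s1 s2 s3
  exact four_solution (g := g) (A := A) (P := P) (Q := Q) (E := E) (R := X) (S := Y) (by omega)
    (by omega) (by omega) (by omega) (by omega) (by omega) (by linarith) (by linarith) (by linarith)
    (by linear_combination -s1) (by linear_combination -s2) (by linear_combination -s3)
    (by omega) (by omega)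

theorem RowSys.main (h120 : 120 ∣ g) (hodd : (g / 8) % 2 = 1) :
    g = 175560 ∨ Nonempty (Spurious R) := by
  rcases R.card_oddSet with ⟨h, he, hx, hy⟩ | ⟨h, he, hx, hy⟩
  · exact R.eight_case h he hx hy h120 hodd
  · exact (R.four_case h he hx hy).elim

end H16.J1
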