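import Cfsg.Agent.H16.Janko1.Columns
import Cfsg.Agent.H16.Janko1.OrderThree
import Cfsg.Agent.H16.Janko1.RowsMain

/-!
The exceptional configuration of rows does not occur.
-/

set_option autoImplicit false

open Cfsg
open scoped ComplexConjugate

namespace H16.J1

universe u

/-- The finite check for the exceptional configuration. -/
def chkX (a b : ℕ) (cC cB p q w : ℤ) : Bool :=
  let δ := 1 - cC
  let R := 3 * ((a : ℤ) + b) - (14 - 17 * δ + 25 * cB + 9 * (p + q))
  if R = 0 then true else if (420 * w) % R ≠ 0 then true else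
    let d := 420 * w / R
    if d % 8 ≠ 4 ∨ d < 28 ∨ 303 < d ∨ (189000 : ℤ) % d ≠ 0 ∨ (w - d) % 3 ≠ 0 then true else
      let cA := cB - δ
      let s := 1 + cC * cC + cA * cA + cB * cB + (p - δ) * (p - δ) + p * p + (q - δ) * (q - δ) +
        q * q + 2 * (w * w)
      let S := 1 + 15 * cC + 35 * cA + 21 * cB + 35 * (p - δ) + 21 * p + 35 * (q - δ) + 21 * q +
        2 * (d * w)
      decide (6 * ((a : ℤ) * b) < s ∨ (6 * ((a : ℤ) * b) = s ∧ S ≠ 0))

def odd135 : List ℕ := [1, 3, 5]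
def vals3 : List ℤ := [-9, -3, 3, 9]
def vals0 : List ℤ := [-12, -6, 0, 6, 12]
def valsW : List ℤ := [-7, -5, -3, -1, 1, 3, 5, 7]

theorem chkX_all : (odd135.all fun a => odd135.all fun b => vals3.all fun cC => vals3.all fun cB =>
    vals0.all fun p => vals0.all fun q => valsW.all fun w => chkX a b cC cB p q w) = true := by
  decide +kernel

theorem exception_false {a b : ℕ} {cC cA cB cP cP' cQ cQ' w d : ℤ}
    (ha : a = 1 ∨ a = 3 ∨ a = 5) (hb : b = 1 ∨ b = 3 ∨ b = 5)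
    (gC : cC % 6 = 3) (gB : cB % 6 = 3) (gP : cP' % 6 = 0) (gQ : cQ' % 6 = 0)
    (gw : w % 2 = 1) (gwd : (w - d) % 3 = 0)
    (e1 : 1 - cC - cA + cB + cP - cP' + cQ - cQ' = 0)
    (e2 : -1 + cC - cA + cB + cP - cP' - cQ + cQ' = 0)
    (e3 : -1 + cC - cA + cB - cP + cP' + cQ - cQ' = 0)
    (hd : d % 8 = 4) (hd28 : 28 ≤ d) (hd303 : d ≤ 303) (hdvd : d ∣ 189000)
    (hN : 1 + (cC : ℚ) / 15 + 25 * cA / 35 + 25 * cB / 21 + 9 * ((cP : ℚ) + cQ) / 35 +
      9 * ((cP' : ℚ) + cQ') / 21 + 32 * w / d = 14400 / 189000 * (3 * ((a : ℚ) + b)))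
    (hs : 1 + cC * cC + cA * cA + cB * cB + cP * cP + cP' * cP' + cQ * cQ + cQ' * cQ' + 2 * (w * w) ≤
      6 * ((a : ℤ) * b))
    (hS : 1 + cC * cC + cA * cA + cB * cB + cP * cP + cP' * cP' + cQ * cQ + cQ' * cQ' + 2 * (w * w) =
      6 * ((a : ℤ) * b) → 1 + 15 * cC + 35 * cA + 21 * cB + 35 * cP + 21 * cP' + 35 * cQ + 21 * cQ' +
        2 * (d * w) = 0) : False := by
  have hab : (a : ℤ) * b ≤ 25 := by
    have : (a : ℤ) ≤ 5 := by omega
    have : (b : ℤ) ≤ 5 := by omega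
    nlinarith
  have bound : ∀ c : ℤ, c * c ≤ 149 → -12 ≤ c ∧ c ≤ 12 := fun c h => ⟨by nlinarith, by nlinarith⟩
  have n1 := mul_self_nonneg cC
  have n2 := mul_self_nonneg cA
  have n3 := mul_self_nonneg cB
  have n4 := mul_self_nonneg cP
  have n5 := mul_self_nonneg cP'
  have n6 := mul_self_nonneg cQ
  have n7 := mul_self_nonneg cQ'
  have n8 := mul_self_nonneg w
  have bC := bound cC (by linarith)
  have bB := bound cB (by linarith)
  have bP := bound cP' (by linarith)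
  have bQ := bound cQ' (by linarith)
  have bw : -8 ≤ w ∧ w ≤ 8 := ⟨by nlinarith, by nlinarith⟩
  have hA : cA = cB - (1 - cC) := by omega
  have hP : cP = cP' - (1 - cC) := by omega
  have hQ : cQ = cQ' - (1 - cC) := by omega
  subst hA hP hQ
  have h := chkX_all
  simp only [List.all_eq_true] at h
  have h := h a (by rcases ha with rfl | rfl | rfl <;> decide) b
    (by rcases hb with rfl | rfl | rfl <;> decide) cC
    (by rcases (show cC = -9 ∨ cC = -3 ∨ cC = 3 ∨ cC = 9 by omega) with rfl | rfl | rfl | rfl <;> decide)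
    cB
    (by rcases (show cB = -9 ∨ cB = -3 ∨ cB = 3 ∨ cB = 9 by omega) with rfl | rfl | rfl | rfl <;> decide)
    cP' (by rcases (show cP' = -12 ∨ cP' = -6 ∨ cP' = 0 ∨ cP' = 6 ∨ cP' = 12 by omega) with
      rfl | rfl | rfl | rfl | rfl <;> decide)
    cQ' (by rcases (show cQ' = -12 ∨ cQ' = -6 ∨ cQ' = 0 ∨ cQ' = 6 ∨ cQ' = 12 by omega) with
      rfl | rfl | rfl | rfl | rfl <;> decide)
    w (by rcases (show w = -7 ∨ w = -5 ∨ w = -3 ∨ w = -1 ∨ w = 1 ∨ w = 3 ∨ w = 5 ∨ w = 7 by omega) with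
      rfl | rfl | rfl | rfl | rfl | rfl | rfl | rfl <;> decide)
  unfold chkX at h
  simp only [] at h
  set R := 3 * ((a : ℤ) + b) - (14 - 17 * (1 - cC) + 25 * cB + 9 * (cP' + cQ')) with hR
  have hd0 : (d : ℚ) ≠ 0 := by exact_mod_cast (show d ≠ 0 by omega)
  have hRd : R * d = 420 * w := by
    have h' : (R : ℚ) * d = 420 * w := by
      rw [hR]
      push_cast at hN ⊢
      field_simp at hN
      linear_combination (-420 / (15 * 35 * 21 * 32 * 189000) : ℚ) * hN
    exact_mod_cast h'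
  have hR0 : R ≠ 0 := by
    intro h0; rw [h0, zero_mul] at hRd; omega
  have hdiv : (420 * w) % R = 0 := Int.emod_eq_zero_of_dvd ⟨d, hRd.symm⟩
  have hdq : 420 * w / R = d := by rw [← hRd]; exact Int.mul_ediv_cancel_left d hR0
  rw [if_neg hR0, if_neg (not_not.2 hdiv), hdq, if_neg (by
    simp only [not_or, not_not, not_lt]
    exact ⟨hd, hd28, hd303, Int.emod_eq_zero_of_dvd hdvd, gwd⟩), decide_eq_true_iff] at h
  rcases h with h | ⟨h, h'⟩
  · linarith
  · exact h' (hS (by linarith))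

end H16.J1
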