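import Cfsg.Agent.H16.Janko1.Model
import Cfsg.Agent.H6.Transfer
import Cfsg.Agent.H24.CharBasic
import Cfsg.Prelude.Def_SporadicB

/-!
Local facts in a simple group with an involution centraliser `Z2 × A5`.
-/

set_option autoImplicit false

namespace H16.J1

universe u

/-- An embedding of `Z2 × A5` as a full involution centraliser with odd index. -/
structure Setup (G : Type u) [Group G] where
  emb : M →* G
  inj : Function.Injective emb
  mem : ∀ g : G, g * emb tau = emb tau * g → ∃ m, emb m = g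
  odd : (Nat.card G / 8) % 2 = 1
  dvd : 120 ∣ Nat.card G

variable {G : Type u} [Group G]

theorem center_eq_tau : ∀ m : M, m ^ 2 = 1 → m ≠ 1 → (∀ k, m * k = k * m) → m = tau := by
  rintro ⟨a, b⟩ hsq hne hc
  have hb : b = 1 := a5_center b fun c => congrArg Prod.snd (hc (1, c))
  subst hb
  have ha : ∀ a : C2, a ≠ 1 → a = Multiplicative.ofAdd 1 := by decide
  have : a ≠ 1 := fun h => hne (by rw [h]; rfl)
  rw [ha a this]
  rfl

theorem card_M : Nat.card M = 120 := by
  rw [Nat.card_prod, show Nat.card C2 = 2 by simp, nat_card_alternatingGroup, Nat.card_fin]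
  rfl

theorem Setup.exists_of_equiv [Finite G] (t : G) (ht : Cfsg.IsTwoCentralInvolution t)
    (e : Subgroup.centralizer ({t} : Set G) ≃* Multiplicative (ZMod 2) × alternatingGroup (Fin 5)) :
    ∃ S : Setup G, S.emb tau = t := by
  obtain ⟨ht2, P, htP, hP⟩ := ht
  set C := Subgroup.centralizer ({t} : Set G) with hC
  have htC : t ∈ C := Subgroup.mem_centralizer_singleton_iff.2 rfl
  have hz : e ⟨t, htC⟩ = tau := by
    refine center_eq_tau _ ?_ ?_ fun k => ?_
    · rw [← map_pow]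
      have : (⟨t, htC⟩ : C) ^ 2 = 1 := Subtype.ext (by
        show t ^ 2 = 1
        rw [← ht2]; exact pow_orderOf_eq_one t)
      rw [this, map_one]
    · intro h
      rw [MulEquiv.map_eq_one_iff] at h
      have : t = 1 := congrArg Subtype.val h
      rw [this, orderOf_one] at ht2
      norm_num at ht2
    · obtain ⟨g, rfl⟩ := e.surjective k
      rw [← map_mul, ← map_mul]
      congr 1
      exact Subtype.ext (Subgroup.mem_centralizer_singleton_iff.1 g.2).symm
  have hemb : (C.subtype.comp e.symm.toMonoidHom) tau = t := by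
    rw [MonoidHom.comp_apply, ← hz]
    show C.subtype (e.symm (e ⟨t, htC⟩)) = t
    rw [e.symm_apply_apply]
    rfl
  have hcard : Nat.card C = 120 := by rw [Nat.card_congr e.toEquiv]; exact card_M
  have h120 : 120 ∣ Nat.card G := hcard ▸ C.card_subgroup_dvd_card
  have hPC : (P : Subgroup G) ≤ C := fun x hx => Subgroup.mem_centralizer_singleton_iff.2 (hP x hx)
  refine ⟨⟨C.subtype.comp e.symm.toMonoidHom,
    C.subtype_injective.comp e.symm.injective, ?_, ?_, h120⟩, hemb⟩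
  · intro g hg
    rw [hemb] at hg
    exact ⟨e ⟨g, Subgroup.mem_centralizer_singleton_iff.2 hg⟩, by simp⟩
  · haveI : Fact (Nat.Prime 2) := ⟨Nat.prime_two⟩
    have h1 : Nat.card (P : Subgroup G) ∣ 120 := hcard ▸ Subgroup.card_dvd_of_le hPC
    have h2 : Nat.card (P : Subgroup G) = 2 ^ (Nat.card G).factorization 2 := P.card_eq_multiplicity
    by_contra hne
    have h16 : 2 ^ 4 ∣ Nat.card G := by omega
    have h3 : 4 ≤ (Nat.card G).factorization 2 :=
      (Nat.prime_two.pow_dvd_iff_le_factorization Nat.card_pos.ne').1 h16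
    have h4 : 2 ^ 4 ∣ 120 := (pow_dvd_pow 2 h3).trans (h2 ▸ h1)
    norm_num at h4

variable (S : Setup G)

/-- The distinguished involution. -/
def Setup.t : G := S.emb tau

/-- The elements `t y`. -/
def Setup.z (i : Fin 4) : G := S.emb (zz i)

theorem Setup.z_zero : S.z 0 = S.t := rfl

theorem tau_sq : tau ^ 2 = 1 := by decide +kernel

theorem Setup.t_sq : S.t ^ 2 = 1 := by rw [Setup.t, ← map_pow, tau_sq, map_one]

theorem Setup.t_ne : S.t ≠ 1 := fun h => by
  have : tau = 1 := S.inj (h.trans (map_one _).symm)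
  exact absurd this (by decide +kernel)

theorem Setup.z_pow (i : Fin 4) : S.z i ^ 15 = S.t := by
  rw [Setup.z, ← map_pow, pow15]; rfl

theorem Setup.orderOf_t : orderOf S.t = 2 := orderOf_eq_prime S.t_sq S.t_ne

theorem mul_self_of_sq {H : Type*} [Group H] {u : H} (h : u ^ 2 = 1) : u * u = 1 := by
  rwa [← pow_two]

/-- Transport of the structure by conjugation. -/
def Setup.conj (g : G) : Setup G where
  emb := (MulAut.conj g).toMonoidHom.comp S.emb
  inj := (MulAut.conj g).injective.comp S.inj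
  mem h hh := by
    simp only [MonoidHom.comp_apply, MulEquiv.coe_toMonoidHom, MulAut.conj_apply] at hh
    obtain ⟨m, hm⟩ := S.mem (g⁻¹ * h * g) (by
      calc g⁻¹ * h * g * S.emb tau = g⁻¹ * (h * (g * S.emb tau * g⁻¹)) * g := by group
        _ = g⁻¹ * (g * S.emb tau * g⁻¹ * h) * g := by rw [hh]
        _ = S.emb tau * (g⁻¹ * h * g) := by group)
    exact ⟨m, by simp only [MonoidHom.comp_apply, MulEquiv.coe_toMonoidHom, MulAut.conj_apply, hm]; group⟩
  odd := S.odd
  dvd := S.dvd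

theorem Setup.conj_t (g : G) : (S.conj g).t = g * S.t * g⁻¹ := rfl

/-- The subgroup `{1, t} × V` of the model, with `V` the four-group fixing the last point. -/
def sylM : Subgroup M where
  carrier := {m | m.2 ^ 2 = 1 ∧ (m.2 : Equiv.Perm (Fin 5)) 4 = 4}
  one_mem' := ⟨one_pow 2, rfl⟩
  mul_mem' {a b} ha hb := four_mul a.2 b.2 ha.1 ha.2 hb.1 hb.2
  inv_mem' {a} ha := by
    have h : a.2⁻¹ = a.2 := inv_eq_of_mul_eq_one_right (mul_self_of_sq ha.1)
    show a.2⁻¹ ^ 2 = 1 ∧ ((a.2⁻¹ : A5) : Equiv.Perm (Fin 5)) 4 = 4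
    rw [h]; exact ha

/-- The subgroup `1 × V` of the model. -/
def fourM : Subgroup M where
  carrier := {m | m.1 = 1 ∧ m.2 ^ 2 = 1 ∧ (m.2 : Equiv.Perm (Fin 5)) 4 = 4}
  one_mem' := ⟨rfl, one_pow 2, rfl⟩
  mul_mem' {a b} ha hb := ⟨by simp [ha.1, hb.1], sylM.mul_mem (x := a) (y := b) ha.2 hb.2⟩
  inv_mem' {a} ha := ⟨by simp [ha.1], sylM.inv_mem (x := a) ha.2⟩

theorem card_sylM : Nat.card sylM = 8 := by
  classical
  have e : sylM ≃ C2 × {b : A5 // b ^ 2 = 1 ∧ (b : Equiv.Perm (Fin 5)) 4 = 4} :=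
    { toFun := fun m => (m.1.1, ⟨m.1.2, m.2⟩)
      invFun := fun p => ⟨(p.1, p.2.1), p.2.2⟩
      left_inv := fun m => rfl
      right_inv := fun p => rfl }
  rw [Nat.card_congr e, Nat.card_prod, show Nat.card C2 = 2 by simp, Nat.card_eq_fintype_card,
    Fintype.card_subtype, card_four]

theorem card_fourM : Nat.card fourM = 4 := by
  classical
  have e : fourM ≃ {b : A5 // b ^ 2 = 1 ∧ (b : Equiv.Perm (Fin 5)) 4 = 4} :=
    { toFun := fun m => ⟨m.1.2, m.2.2⟩
      invFun := fun b => ⟨(1, b.1), rfl, b.2⟩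
      left_inv := fun m => Subtype.ext (Prod.ext m.2.1.symm rfl)
      right_inv := fun p => rfl }
  rw [Nat.card_congr e, Nat.card_eq_fintype_card, Fintype.card_subtype, card_four]

/-- A Sylow two-subgroup of `G`. -/
def Setup.syl : Subgroup G := sylM.map S.emb

theorem Setup.card_syl : Nat.card S.syl = 8 := by
  rw [Setup.syl, ← Nat.card_congr (sylM.equivMapOfInjective S.emb S.inj).toEquiv, card_sylM]

variable [Finite G]

include S in
theorem Setup.card_gt : 120 ≤ Nat.card G := Nat.le_of_dvd Nat.card_pos S.dvd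

include S in
theorem Setup.factorization_two : (Nat.card G).factorization 2 = 3 := by
  have hne : Nat.card G ≠ 0 := Nat.card_pos.ne'
  have h8 : 2 ^ 3 ∣ Nat.card G := (show (2 ^ 3 : ℕ) ∣ 120 by norm_num).trans S.dvd
  refine le_antisymm ?_ ((Nat.prime_two.pow_dvd_iff_le_factorization hne).1 h8)
  by_contra h
  have h16 : 2 ^ 4 ∣ Nat.card G := (Nat.prime_two.pow_dvd_iff_le_factorization hne).2 (by omega)
  have := S.odd
  omega

theorem Setup.isConj_t [IsSimpleGroup G] {u : G} (h2 : u ^ 2 = 1) (h1 : u ≠ 1) :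
    IsConj S.t u := by
  haveI : Fact (Nat.Prime 2) := ⟨Nat.prime_two⟩
  let P : Sylow 2 G := Sylow.ofCard S.syl (by rw [S.card_syl, S.factorization_two]; norm_num)
  set Q : Subgroup G := fourM.map S.emb with hQ
  have hQP : Q ≤ (P : Subgroup G) := Subgroup.map_mono fun m hm => hm.2
  have hQi : Q.relIndex (P : Subgroup G) = 2 := by
    have h := (Q.subgroupOf (P : Subgroup G)).card_mul_index
    rw [Nat.card_congr (Subgroup.subgroupOfEquivOfLe hQP).toEquiv, hQ,
      ← Nat.card_congr (fourM.equivMapOfInjective S.emb S.inj).toEquiv, card_fourM] at h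
    have h8 : Nat.card (P : Subgroup G) = 8 := S.card_syl
    rw [h8] at h
    show (Q.subgroupOf (P : Subgroup G)).index = 2
    rw [hQ]; omega
  have main : ∀ w : G, w ^ 2 = 1 → w ≠ 1 → ∃ g : G, g * w * g⁻¹ ∈ Q := by
    intro w hw2 hw1
    refine (H6.thompson_transfer P Q hQP hQi w (orderOf_eq_prime hw2 hw1)).resolve_left ?_
    rintro ⟨N, hN, hi, -⟩
    rcases IsSimpleGroup.eq_bot_or_eq_top_of_normal N hN with rfl | rfl
    · have := S.card_gt
      rw [Subgroup.index_bot] at hi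
      omega
    · rw [Subgroup.index_top] at hi
      omega
  have inQ : ∀ a ∈ Q, ∀ b ∈ Q, a ≠ 1 → b ≠ 1 → IsConj a b := by
    rintro a ⟨⟨i, x⟩, ⟨hi, hx, -⟩, rfl⟩ b ⟨⟨j, y⟩, ⟨hj, hy, -⟩, rfl⟩ ha hb
    simp only [] at hi hj
    subst hi hj
    obtain ⟨g, hg⟩ := a5_conj_inv x hx (fun h => ha (by rw [h]; exact map_one _)) y hy
      (fun h => hb (by rw [h]; exact map_one _))
    refine isConj_iff.2 ⟨S.emb (1, g), ?_⟩
    rw [← map_inv, ← map_mul, ← map_mul]
    exact congrArg S.emb (by simp [Prod.ext_iff, hg])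
  have ne : ∀ (g w : G), w ≠ 1 → g * w * g⁻¹ ≠ 1 := fun g w hw h => hw (by simpa using h)
  obtain ⟨g, hg⟩ := main S.t S.t_sq S.t_ne
  obtain ⟨k, hk⟩ := main u h2 h1
  exact ((isConj_iff.2 ⟨g, rfl⟩).trans (inQ _ hg _ hk (ne g _ S.t_ne) (ne k _ h1))).trans
    (isConj_iff.2 ⟨k⁻¹, by group⟩)

theorem Setup.invol_iff [IsSimpleGroup G] {u : G} : IsConj S.t u ↔ u ^ 2 = 1 ∧ u ≠ 1 := by
  refine ⟨fun h => ?_, fun h => S.isConj_t h.1 h.2⟩
  obtain ⟨g, rfl⟩ := isConj_iff.1 h
  exact ⟨by rw [conj_pow, S.t_sq]; group, fun e => S.t_ne (by simpa using e)⟩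

omit [Finite G] in
theorem Setup.mem_of_centralizes_z {g : G} {i : Fin 4} (h : g * S.z i * g⁻¹ = S.z i) :
    ∃ m, S.emb m = g := by
  refine S.mem g ?_
  have h15 := conj_pow (i := 15) (a := g) (b := S.z i)
  rw [h, S.z_pow] at h15
  exact (mul_inv_eq_iff_eq_mul.1 h15.symm)

theorem Setup.card_centralizer (i : Fin 4) :
    Nat.card (Subgroup.centralizer ({S.z i} : Set G)) = cz i := by
  classical
  rw [← card_cent i, ← Fintype.card_subtype, ← Nat.card_eq_fintype_card]
  symm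
  refine Nat.card_eq_of_bijective (fun m => ⟨S.emb m.1, ?_⟩) ⟨?_, ?_⟩
  · rw [Subgroup.mem_centralizer_singleton_iff, Setup.z, ← map_mul, ← map_mul, m.2]
  · intro a b h
    exact Subtype.ext (S.inj (congrArg Subtype.val h))
  · rintro ⟨g, hg⟩
    rw [Subgroup.mem_centralizer_singleton_iff] at hg
    obtain ⟨m, rfl⟩ := S.mem_of_centralizes_z (i := i) (mul_inv_eq_iff_eq_mul.2 hg)
    refine ⟨⟨m, S.inj ?_⟩, rfl⟩
    rw [map_mul, map_mul]; exact hg

theorem Setup.index_t : (Subgroup.centralizer ({S.t} : Set G)).index * 120 = Nat.card G := by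
  have h := (Subgroup.centralizer ({S.t} : Set G)).index_mul_card
  have hc : Nat.card (Subgroup.centralizer ({S.t} : Set G)) = 120 := S.card_centralizer 0
  rwa [hc] at h

theorem Setup.classMult_z [IsSimpleGroup G] (i : Fin 4) :
    H24.classMult S.t S.t (S.z i) = nz i := by
  classical
  rw [← card_fact i, ← Fintype.card_subtype, ← Nat.card_eq_fintype_card]
  symm
  refine Nat.card_eq_of_bijective (fun u => ⟨(S.emb u.1, S.emb (u.1 * zz i)), ?_, ?_, ?_⟩) ⟨?_, ?_⟩
  · refine S.invol_iff.2 ⟨by rw [← map_pow, u.2.1.1, map_one], fun h => u.2.1.2 (S.inj (h.trans (map_one _).symm))⟩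
  · refine S.invol_iff.2 ⟨by rw [← map_pow, u.2.2.1, map_one], fun h => u.2.2.2 (S.inj (h.trans (map_one _).symm))⟩
  · show S.emb u.1 * S.emb (u.1 * zz i) = S.z i
    rw [← map_mul, ← mul_assoc, mul_self_of_sq u.2.1.1, one_mul]
    rfl
  · intro a b h
    exact Subtype.ext (S.inj (congrArg (fun p => p.1.1) h))
  · rintro ⟨⟨a, b⟩, ha', hb', hab⟩
    have ha : a ^ 2 = 1 ∧ a ≠ 1 := S.invol_iff.1 ha'
    have hb : b ^ 2 = 1 ∧ b ≠ 1 := S.invol_iff.1 hb'
    simp only [] at hab
    have haa := mul_self_of_sq ha.1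
    have hai : a⁻¹ = a := inv_eq_of_mul_eq_one_right haa
    have hbi : b⁻¹ = b := inv_eq_of_mul_eq_one_right (mul_self_of_sq hb.1)
    have hinv : a * S.z i * a⁻¹ = (S.z i)⁻¹ := by
      rw [← hab, mul_inv_rev, hbi, hai, ← mul_assoc, haa, one_mul]
    have hat : a * S.t * a⁻¹ = S.t := by
      rw [← S.z_pow i, ← conj_pow, hinv, inv_pow, S.z_pow]
      exact inv_eq_of_mul_eq_one_right (mul_self_of_sq S.t_sq)
    obtain ⟨m, rfl⟩ := S.mem a (mul_inv_eq_iff_eq_mul.1 hat)
    have hbm : S.emb (m * zz i) = b := by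
      rw [map_mul]
      show S.emb m * S.z i = b
      rw [← hab, ← mul_assoc, haa, one_mul]
    refine ⟨⟨m, ⟨S.inj (by rw [map_pow, ha.1, map_one]), fun h => ha.2 (by rw [h, map_one])⟩,
      S.inj (by rw [map_pow, hbm, hb.1, map_one]), fun h => hb.2 (by rw [← hbm, h, map_one])⟩, ?_⟩
    exact Subtype.ext (Prod.ext rfl hbm)

omit [Finite G] in
theorem Setup.not_isConj {i j : Fin 4} (hij : i ≠ j) : ¬ IsConj (S.z i) (S.z j) := by
  intro h
  obtain ⟨g, hg⟩ := isConj_iff.1 h
  have h15 := conj_pow (i := 15) (a := g) (b := S.z i)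
  rw [hg, S.z_pow, S.z_pow] at h15
  obtain ⟨m, rfl⟩ := S.mem g (mul_inv_eq_iff_eq_mul.1 h15.symm)
  refine not_conj i j hij m (S.inj ?_)
  rw [map_mul, map_mul, map_inv]
  exact hg

omit [Finite G] in
theorem Setup.isConj_inv (i : Fin 4) : IsConj (S.z i) (S.z i)⁻¹ := by
  obtain ⟨m, hm⟩ := real_zz i
  exact isConj_iff.2 ⟨S.emb m, by rw [Setup.z, ← map_inv, ← map_mul, ← map_mul, hm, map_inv]⟩

theorem Setup.syl_conj [IsSimpleGroup G] {x : G} (hx : x ∈ S.syl) (hne : x ≠ 1) :
    IsConj S.t x := by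
  obtain ⟨⟨i, b⟩, hb, rfl⟩ := hx
  refine S.isConj_t ?_ hne
  rw [← map_pow, show ((i, b) : M) ^ 2 = 1 from Prod.ext ?_ hb.1, map_one]
  have : ∀ i : C2, i ^ 2 = 1 := by decide
  exact this i

end H16.J1
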