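import Cfsg.Agent.H16.Janko1.Exception

/-!
Janko's order theorem.
-/

set_option autoImplicit false

open Cfsg
open scoped ComplexConjugate

namespace H16.J1

universe u

variable {G : Type u} [Group G] [Finite G] (S : Setup G)

theorem Setup.crd_one (k : Fin 4) : S.crd (H12.oneIrr G) k = ![1, -1, -1, 0] k := by
  have h := S.crd_eq (H12.oneIrr G) k
  simp only [H12.oneIrr_apply, mul_one] at h
  have : ((S.crd (H12.oneIrr G) k : ℤ) : ℂ) = (((![1, -1, -1, 0] : Fin 4 → ℤ) k : ℤ) : ℂ) := by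
    rw [h]
    fin_cases k <;> simp [coef, Fin.sum_univ_four] <;> ring
  exact_mod_cast this

variable [IsSimpleGroup G] [Fintype (IrrCharacter G)]

omit [IsSimpleGroup G] in
theorem Setup.gram_eq (k l : Fin 4) : (∑ χ, S.crd χ k * S.crd χ l : ℤ) =
    if k = l then (if k = 3 then 2 else 8) else 0 := by
  have h := S.sum_gram k l
  have hr := sqrt_five_mul
  have h' : ((∑ χ, S.crd χ k * S.crd χ l : ℤ) : ℂ) =
      (((if k = l then (if k = 3 then 2 else 8) else 0) : ℤ) : ℂ) := by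
    rw [h]
    fin_cases k <;> fin_cases l <;> simp [coef, cz, Fin.sum_univ_four] <;>
      first
      | ring1
      | linear_combination (4 / 5 : ℂ) * hr
      | linear_combination (-4 / 5 : ℂ) * hr
  exact_mod_cast h'

/-- The integral rows of the setup. -/
noncomputable def Setup.rows : RowSys (IrrCharacter G) (Nat.card G) where
  e := S.ce
  x := S.cx
  y := S.cy
  m := S.cm
  D := S.deg
  o := H12.oneIrr G
  oe := S.crd_one 0
  ox := S.crd_one 1
  oy := S.crd_one 2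
  oD := by
    have h := S.deg_eq (H12.oneIrr G)
    rw [H12.oneIrr_apply] at h
    exact_mod_cast h.symm
  px := S.parity_x
  py := S.parity_y
  see := S.gram_eq 0 0
  sxx := S.gram_eq 1 1
  syy := S.gram_eq 2 2
  sex := S.gram_eq 0 1
  sey := S.gram_eq 0 2
  sxy := S.gram_eq 1 2
  smm := S.gram_eq 3 3
  sme := S.gram_eq 3 0
  smx := S.gram_eq 3 1
  smy := S.gram_eq 3 2
  de := S.sum_deg 0
  dx := S.sum_deg 1
  dy := S.sum_deg 2
  dm := S.sum_deg 3
  ste := by simpa [Setup.val, Setup.crd, structVec] using S.sum_struct 0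
  stx := by simpa [Setup.val, Setup.crd, structVec] using S.sum_struct 1
  sty := by simpa [Setup.val, Setup.crd, structVec] using S.sum_struct 2
  stm := by simpa [Setup.val, Setup.crd, structVec] using S.sum_struct 3
  pos := S.deg_pos
  dvd := S.deg_dvd
  mod8 χ := (S.mult_syl χ).1
  nonneg χ := (S.mult_syl χ).2
  sq := S.sum_deg_sq

theorem y_powers : zz 1 ^ 4 = m3 ∧ zz 1 ^ 2 = m3⁻¹ ∧ m3 ^ 15 = 1 ∧ ∀ i : Fin 4, zz i ^ 15 ≠ 1 := by
  refine ⟨?_, ?_, ?_, ?_⟩ <;> decide +kernel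

omit [IsSimpleGroup G] [Fintype (IrrCharacter G)] in
theorem Setup.exists_c (χ : IrrCharacter G) : ∃ c f : ℤ, (χ : G → ℂ) S.y = c ∧
    (χ : G → ℂ) (S.z 1) = f ∧ (S.deg χ - c) % 3 = 0 ∧ (c + f) % 2 = 0 ∧
    2 * f = 2 * S.cm χ - S.cx χ - S.cy χ := by
  obtain ⟨p4, p2, -, -⟩ := y_powers
  have o6 : zz 1 ^ 6 = 1 := m_powers.2.2.2.2.2.2
  obtain ⟨l, v, hv, hvv⟩ := H18.exists_roots (H12.isCharacter_irr χ) (S.z 1) 6
    (by rw [Setup.z, ← map_pow, o6, map_one])
  have hreal : conj ((χ : G → ℂ) S.y) = (χ : G → ℂ) S.y := by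
    rw [← H12.irr_inv, ← S.v_inv]
    exact H12.IsClassFunction.of_isConj (H12.irr_isClassFunction χ) (isConj_iff.2 ⟨S.v, rfl⟩).symm
  have h4 : ∑ i, v i ^ 4 = (χ : G → ℂ) S.y := by rw [← hvv, Setup.z, ← map_pow, p4]; rfl
  have h2 : ∑ i, v i ^ 2 = (χ : G → ℂ) S.y := by
    rw [← hvv, Setup.z, ← map_pow, p2, map_inv, H12.irr_inv]; exact hreal
  have h0 : ∑ i, v i ^ 0 = (S.deg χ : ℂ) := by rw [← hvv, pow_zero, S.deg_eq]
  have h1 : ∑ i, v i = (χ : G → ℂ) (S.z 1) := by simpa using (hvv 1).symm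
  obtain ⟨k, hk⟩ := int_sum (fun i => (six_root (hv i)).2.1)
  rw [Finset.sum_add_distrib, Finset.sum_add_distrib, h4, h2] at hk
  simp only [pow_zero] at h0
  rw [h0] at hk
  have ic : IsIntegral ℤ ((χ : G → ℂ) S.y) :=
    h4 ▸ IsIntegral.sum _ fun i _ => (isIntegral_root (by norm_num) (hv i)).pow _
  obtain ⟨c, hc, hc'⟩ := int_of_two_mul ic (3 * k - S.deg χ) (by push_cast; linear_combination hk)
  obtain ⟨f, hf⟩ : ∃ f : ℤ, 2 * f = 2 * S.cm χ - S.cx χ - S.cy χ := by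
    refine ⟨S.cm χ - (S.cx χ + S.cy χ) / 2, ?_⟩
    have := S.parity_x χ
    have := S.parity_y χ
    omega
  have hfv : (χ : G → ℂ) (S.z 1) = f := by
    rw [(S.row_spec χ).2.1]
    have : (2 : ℂ) * f = 2 * S.cm χ - S.cx χ - S.cy χ := by exact_mod_cast hf
    linear_combination -this / 2
  refine ⟨c, f, hc, hfv, by omega, ?_, hf⟩
  have hi : IsIntegral ℤ (∑ i, (v i + v i ^ 4) / 2) :=
    IsIntegral.sum _ fun i _ => (six_root (hv i)).2.2
  rw [← Finset.sum_div, Finset.sum_add_distrib, h1, h4, hc, hfv] at hi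
  obtain ⟨z, -, hz⟩ := int_of_two_mul hi (f + c) (by push_cast; ring)
  omega

/-- The value of a character at the element of order three. -/
noncomputable def Setup.cv (χ : IrrCharacter G) : ℤ := (S.exists_c χ).choose

omit [IsSimpleGroup G] [Fintype (IrrCharacter G)] in
theorem Setup.cv_spec (χ : IrrCharacter G) : (χ : G → ℂ) S.y = (S.cv χ : ℂ) ∧
    (S.deg χ - S.cv χ) % 3 = 0 ∧
    ∃ f : ℤ, (S.cv χ + f) % 2 = 0 ∧ 2 * f = 2 * S.cm χ - S.cx χ - S.cy χ := by
  obtain ⟨f, h1, -, h2, h3, h4⟩ := (S.exists_c χ).choose_spec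
  exact ⟨h1, h2, f, h3, h4⟩

omit [IsSimpleGroup G] [Fintype (IrrCharacter G)] in
theorem Setup.y_not_conj (i : Fin 4) : ¬ IsConj S.y (S.z i) := by
  intro h
  obtain ⟨g, hg⟩ := isConj_iff.1 h
  have h15 := conj_pow (i := 15) (a := g) (b := S.y)
  rw [hg, S.z_pow, Setup.y, ← map_pow, y_powers.2.2.1, map_one, mul_one, mul_inv_cancel] at h15
  exact S.t_ne h15

omit [IsSimpleGroup G] in
theorem Setup.sum_cv (k : Fin 4) : ∑ χ, S.cv χ * S.crd χ k = 0 := by
  classical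
  haveI := Fintype.ofFinite G
  have h : ((∑ χ, S.cv χ * S.crd χ k : ℤ) : ℂ) = 0 := by
    push_cast
    simp only [← (S.cv_spec _).1, S.crd_eq, Finset.mul_sum]
    rw [Finset.sum_comm]
    refine Finset.sum_eq_zero fun i _ => ?_
    have h := H12.column_orthogonality S.y (S.z i)
    rw [if_neg (S.y_not_conj i)] at h
    rw [← mul_zero (coef k i), ← h, Finset.mul_sum]
    refine Finset.sum_congr (Finset.ext fun χ => by simp) fun χ _ => ?_
    rw [S.irr_real]; ring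
  exact_mod_cast h

omit [IsSimpleGroup G] in
theorem Setup.sum_cv_deg : ∑ χ, S.cv χ * S.deg χ = 0 := by
  classical
  haveI := Fintype.ofFinite G
  have h : ((∑ χ, S.cv χ * S.deg χ : ℤ) : ℂ) = 0 := by
    push_cast
    have h := H12.column_orthogonality S.y 1
    rw [if_neg (fun hc => S.y_facts.2 (isConj_one_right.1 hc.symm))] at h
    rw [← h]
    refine Finset.sum_congr (Finset.ext fun χ => by simp) fun χ _ => ?_
    rw [← (S.cv_spec χ).1, ← S.deg_eq, H24.irr_one, Complex.conj_natCast]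
  exact_mod_cast h

omit [IsSimpleGroup G] in
theorem Setup.sum_cv_sq :
    ∑ χ, S.cv χ * S.cv χ = (Nat.card (Subgroup.centralizer ({S.y} : Set G)) : ℤ) := by
  classical
  haveI := Fintype.ofFinite G
  have h : ((∑ χ, S.cv χ * S.cv χ : ℤ) : ℂ) =
      ((Nat.card (Subgroup.centralizer ({S.y} : Set G)) : ℤ) : ℂ) := by
    push_cast
    have h := H12.column_orthogonality S.y S.y
    rw [if_pos (IsConj.refl _)] at h
    rw [← h]
    refine Finset.sum_congr (Finset.ext fun χ => by simp) fun χ _ => ?_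
    rw [(S.cv_spec χ).1, map_intCast]
  exact_mod_cast h

theorem Setup.sum_cv_struct :
    ∑ χ, (S.val χ : ℚ) * S.val χ / S.deg χ * S.cv χ =
      14400 / (Nat.card G : ℚ) * (H24.classMult S.t S.t S.y : ℚ) := by
  classical
  haveI := Fintype.ofFinite G
  have hg : (Nat.card G : ℂ) ≠ 0 := by exact_mod_cast Nat.card_pos.ne'
  have hi : ((Subgroup.centralizer ({S.t} : Set G)).index : ℂ) * 120 = (Nat.card G : ℂ) := by
    exact_mod_cast S.index_t
  have h : ((∑ χ, (S.val χ : ℚ) * S.val χ / S.deg χ * S.cv χ : ℚ) : ℂ) =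
      ((14400 / (Nat.card G : ℚ) * (H24.classMult S.t S.t S.y : ℚ) : ℚ) : ℂ) := by
    push_cast
    simp only [← S.val_eq, ← S.deg_eq, ← (S.cv_spec _).1]
    have h := H24.classMult_eq S.t S.t S.y
    have hconj : ∀ χ : IrrCharacter G, conj ((χ : G → ℂ) S.y) = (χ : G → ℂ) S.y := fun χ => by
      rw [(S.cv_spec χ).1, map_intCast]
    simp only [hconj] at h
    have hsum : ∑ χ : IrrCharacter G, (χ : G → ℂ) S.t * (χ : G → ℂ) S.t / (χ : G → ℂ) 1 *
        (χ : G → ℂ) S.y = ∑ χ : IrrCharacter G, (χ : G → ℂ) S.t * (χ : G → ℂ) S.t *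
        (χ : G → ℂ) S.y / (χ : G → ℂ) 1 := Finset.sum_congr rfl fun χ _ => by ring
    have h' : (H24.classMult S.t S.t S.y : ℂ) * (Nat.card G : ℂ) =
        ((Subgroup.centralizer ({S.t} : Set G)).index : ℂ) *
          ((Subgroup.centralizer ({S.t} : Set G)).index : ℂ) * ∑ χ : IrrCharacter G,
          (χ : G → ℂ) S.t * (χ : G → ℂ) S.t * (χ : G → ℂ) S.y / (χ : G → ℂ) 1 :=
      h.trans (congrArg _ (Finset.sum_congr (Finset.ext fun χ => by simp) fun _ _ => rfl))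
    clear h
    rw [hsum, div_mul_eq_mul_div, eq_div_iff hg]
    apply mul_right_cancel₀ hg
    rw [← hi] at h' ⊢
    linear_combination (-14400 : ℂ) * h'
  exact_mod_cast h

theorem Setup.not_spurious (X : Spurious S.rows) : False := by
  classical
  obtain ⟨a₀, b₀, ha, hb, hC, hN⟩ := S.three_local
  obtain ⟨i, j, hij, mi, mj, hdij, ⟨ei, xi, yi⟩, ⟨ej, xj, yj⟩, hz⟩ := S.rows.mrows
  obtain ⟨hg, c, a, b, p, p', q, q', ⟨rc1, rc2, rc3, rc4⟩, ⟨ra1, ra2, ra3, ra4⟩, ⟨rb1, rb2, rb3, rb4⟩,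
    ⟨rp1, rp2, rp3, rp4⟩, ⟨rs1, rs2, rs3, rs4⟩, ⟨rq1, rq2, rq3, rq4⟩, ⟨ru1, ru2, ru3, ru4⟩, sum8, zero⟩ := X
  set R := S.rows with hR
  have mz : ∀ {r : IrrCharacter G}, R.e r ≠ 0 → R.m r = 0 := fun h => R.m_zero (Or.inl h)
  have hco : (S.cv R.o : ℤ) = 1 := by
    have h := (S.cv_spec R.o).1
    rw [show R.o = H12.oneIrr G from rfl, H12.oneIrr_apply] at h
    exact_mod_cast h.symm
  have moF : R.m R.o = 0 := mz (by rw [R.oe]; norm_num)
  have mc := mz (r := c) (by rw [rc1]; norm_num)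
  have ma := mz (r := a) (by rw [ra1]; norm_num)
  have mb := mz (r := b) (by rw [rb1]; norm_num)
  have mp := mz (r := p) (by rw [rp1]; norm_num)
  have ms := mz (r := p') (by rw [rs1]; norm_num)
  have mq := mz (r := q) (by rw [rq1]; norm_num)
  have mu := mz (r := q') (by rw [ru1]; norm_num)
  have residue : ∀ r : IrrCharacter G, (R.D r - S.cv r) % 3 = 0 ∧
      ∃ f : ℤ, (S.cv r + f) % 2 = 0 ∧ 2 * f = 2 * R.m r - R.x r - R.y r := fun r =>
    ⟨(S.cv_spec r).2.1, (S.cv_spec r).2.2⟩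
  have sum10 : ∀ φ : IrrCharacter G → ℚ, (∀ r, R.e r = 0 → R.m r = 0 → φ r = 0) →
      ∑ r, φ r = φ R.o + φ c + φ a + φ b + φ p + φ p' + φ q + φ q' + (φ i + φ j) := by
    intro φ hφ
    have h1 := sum8 (fun r => if R.e r = 0 then 0 else φ r) fun r hr => by simp [hr]
    simp only [R.oe, rc1, ra1, rb1, rp1, rs1, rq1, ru1] at h1
    norm_num at h1
    have h2 : ∑ r, (if R.e r = 0 then φ r else 0) = φ i + φ j := by
      rw [sum_two _ hij fun k k1 k2 => ?_, if_pos ei, if_pos ej]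
      by_cases hk : R.e k = 0
      · rw [if_pos hk]; exact hφ k hk (hz k k1 k2)
      · rw [if_neg hk]
    rw [← h1, ← h2, ← Finset.sum_add_distrib]
    exact Finset.sum_congr rfl fun r _ => by split_ifs <;> simp
  -- linear relations
  have lin : ∀ u : IrrCharacter G → ℤ, (∀ r, R.e r = 0 → R.m r = 0 → u r = 0) →
      ∑ r, S.cv r * u r = 0 → S.cv R.o * u R.o + S.cv c * u c + S.cv a * u a + S.cv b * u b +
        S.cv p * u p + S.cv p' * u p' + S.cv q * u q + S.cv q' * u q' +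
        (S.cv i * u i + S.cv j * u j) = 0 := by
    intro u hu h0
    have h := sum10 (fun r => ((S.cv r * u r : ℤ) : ℚ)) fun r h1 h2 => by simp [hu r h1 h2]
    rw [← Int.cast_sum, h0] at h
    exact_mod_cast h.symm
  have e1 := lin R.e (fun r h _ => h) (S.sum_cv 0)
  have e2 := lin R.x (fun r h _ => (zero r h).1) (S.sum_cv 1)
  have e3 := lin R.y (fun r h _ => (zero r h).2) (S.sum_cv 2)
  have e4 := lin R.m (fun r _ h => h) (S.sum_cv 3)
  rw [R.oe, rc1, ra1, rb1, rp1, rs1, rq1, ru1, ei, ej, hco] at e1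
  rw [R.ox, rc2, ra2, rb2, rp2, rs2, rq2, ru2, xi, xj, hco] at e2
  rw [R.oy, rc3, ra3, rb3, rp3, rs3, rq3, ru3, yi, yj, hco] at e3
  rw [moF, mc, ma, mb, mp, ms, mq, mu, mi, mj] at e4
  have hw : S.cv j = S.cv i := by linarith
  -- the equation at `y`
  have s1 := sum10 (fun r => (R.F r : ℚ) * R.F r / R.D r * S.cv r) fun r h1 h2 => by
    simp [RowSys.F, h1, (zero r h1).1, (zero r h1).2, h2]
  have hs := S.sum_cv_struct
  rw [hN, hg] at hs
  rw [show (∑ r, (R.F r : ℚ) * R.F r / R.D r * S.cv r) =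
    ∑ r, (S.val r : ℚ) * S.val r / S.deg r * S.cv r from Finset.sum_congr rfl fun r _ => rfl, hs] at s1
  simp only [RowSys.F, R.oe, R.ox, R.oy, R.oD, rc1, rc2, rc3, rc4, ra1, ra2, ra3, ra4, rb1, rb2, rb3,
    rb4, rp1, rp2, rp3, rp4, rs1, rs2, rs3, rs4, rq1, rq2, rq3, rq4, ru1, ru2, ru3, ru4, ei, ej, xi,
    xj, yi, yj, mi, mj, moF, mc, ma, mb, mp, ms, mq, mu, hco, hw, ← hdij] at s1
  norm_num at s1
  -- squares
  have hC' : (Nat.card (Subgroup.centralizer ({S.y} : Set G)) : ℤ) = 6 * ((a₀ : ℤ) * b₀) := by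
    rw [hC]; push_cast; ring
  have q1 := sum10 (fun r => if R.e r = 0 ∧ R.m r = 0 then 0 else ((S.cv r * S.cv r : ℤ) : ℚ))
    fun r h1 h2 => by simp [h1, h2]
  simp only [R.oe, rc1, ra1, rb1, rp1, rs1, rq1, ru1, ei, ej, mi, mj, hco, hw] at q1
  norm_num at q1
  have qle : (∑ r, if R.e r = 0 ∧ R.m r = 0 then 0 else (S.cv r : ℚ) * S.cv r) ≤
      ((6 * ((a₀ : ℤ) * b₀) : ℤ) : ℚ) := by
    rw [← hC', ← S.sum_cv_sq, Int.cast_sum]
    refine Finset.sum_le_sum fun r _ => ?_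
    split_ifs
    · exact_mod_cast mul_self_nonneg (S.cv r)
    · push_cast; exact le_rfl
  -- degrees
  have hd : (8 : ℤ) ∣ R.D i - 4 := by
    have := R.mod8 i
    rw [ei, xi, yi, mi] at this
    exact Int.dvd_of_emod_eq_zero (by simpa using this)
  have hd28 : 28 ≤ R.D i := by
    have := R.nonneg j
    rw [ej, xj, yj, mj, ← hdij] at this
    omega
  have hd303 : R.D i ≤ 303 := by
    have h := sum10 (fun r => if R.e r = 0 ∧ R.m r = 0 then 0 else ((R.D r * R.D r : ℤ) : ℚ))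
      fun r h1 h2 => by simp [h1, h2]
    simp only [R.oe, rc1, ra1, rb1, rp1, rs1, rq1, ru1, ei, ej, mi, mj, R.oD, rc4, ra4, rb4, rp4, rs4,
      rq4, ru4, ← hdij] at h
    norm_num at h
    have hle : (∑ r, if R.e r = 0 ∧ R.m r = 0 then 0 else (R.D r : ℚ) * R.D r) ≤ 189000 := by
      rw [show (189000 : ℚ) = ((Nat.card G : ℤ) : ℚ) by rw [hg]; norm_num, ← R.sq, Int.cast_sum]
      refine Finset.sum_le_sum fun r _ => ?_
      split_ifs
      · exact_mod_cast mul_self_nonneg (R.D r)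
      · push_cast; exact le_rfl
    rw [h] at hle
    have hpos : (0 : ℚ) ≤ R.D i := by exact_mod_cast (R.pos i).le
    have : (R.D i : ℚ) < 304 := by nlinarith
    exact Int.lt_add_one_iff.1 (by exact_mod_cast this : R.D i < 303 + 1)
  have hdvd : R.D i ∣ 189000 := by
    have h := R.dvd i
    have hgz : (Nat.card G : ℤ) = 189000 := by rw [hg]; norm_num
    exact hgz ▸ h
  obtain ⟨gc3, fc, gc2, hfc⟩ := residue c
  obtain ⟨gb3, fb, gb2, hfb⟩ := residue b
  obtain ⟨gs3, fs, gs2, hfs⟩ := residue p'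
  obtain ⟨gu3, fu, gu2, hfu⟩ := residue q'
  obtain ⟨gi3, fi, gi2, hfi⟩ := residue i
  rw [mc, rc2, rc3] at hfc
  rw [rc4] at gc3
  rw [mb, rb2, rb3] at hfb
  rw [rb4] at gb3
  rw [ms, rs2, rs3] at hfs
  rw [rs4] at gs3
  rw [mu, ru2, ru3] at hfu
  rw [ru4] at gu3
  rw [mi, xi, yi] at hfi
  refine exception_false (a := a₀) (b := b₀) (cC := S.cv c) (cA := S.cv a) (cB := S.cv b) (cP := S.cv p)
    (cP' := S.cv p') (cQ := S.cv q) (cQ' := S.cv q') (w := S.cv i) (d := R.D i) ha hb (by omega)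
    (by omega) (by omega) (by omega) (by omega) (by omega) (by linarith) (by linarith) (by linarith)
    (by omega) hd28 hd303 hdvd (by linear_combination -s1) ?_ ?_
  · rw [q1] at qle
    exact_mod_cast (by push_cast at qle ⊢; linarith : ((1 + S.cv c * S.cv c + S.cv a * S.cv a +
      S.cv b * S.cv b + S.cv p * S.cv p + S.cv p' * S.cv p' + S.cv q * S.cv q + S.cv q' * S.cv q' +
      2 * (S.cv i * S.cv i) : ℤ) : ℚ) ≤ ((6 * ((a₀ : ℤ) * b₀) : ℤ) : ℚ))
  · intro heq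
    have hsq0 : ∀ r, R.e r = 0 → R.m r = 0 → S.cv r = 0 := by
      have hz0 : ∑ r, (((S.cv r * S.cv r : ℤ) : ℚ) -
          (if R.e r = 0 ∧ R.m r = 0 then 0 else ((S.cv r * S.cv r : ℤ) : ℚ))) = 0 := by
        rw [Finset.sum_sub_distrib, ← Int.cast_sum, S.sum_cv_sq, hC']
        have heq' : (((1 + S.cv c * S.cv c + S.cv a * S.cv a + S.cv b * S.cv b + S.cv p * S.cv p +
          S.cv p' * S.cv p' + S.cv q * S.cv q + S.cv q' * S.cv q' + 2 * (S.cv i * S.cv i) : ℤ)) : ℚ) =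
          ((6 * ((a₀ : ℤ) * b₀) : ℤ) : ℚ) := by exact_mod_cast heq
        push_cast at heq' ⊢
        rw [q1]
        linarith
      intro r h1 h2
      have := (Finset.sum_eq_zero_iff_of_nonneg fun r _ => ?_).1 hz0 r (Finset.mem_univ r)
      · rw [if_pos ⟨h1, h2⟩, sub_zero] at this
        exact mul_self_eq_zero.1 (by exact_mod_cast this : S.cv r * S.cv r = 0)
      · split_ifs
        · rw [sub_zero]; exact_mod_cast mul_self_nonneg (S.cv r)
        · rw [sub_self]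
    have h := sum10 (fun r => ((S.cv r * R.D r : ℤ) : ℚ)) fun r h1 h2 => by simp [hsq0 r h1 h2]
    rw [← Int.cast_sum, show (∑ r, S.cv r * R.D r) = 0 from S.sum_cv_deg] at h
    simp only [R.oD, rc4, ra4, rb4, rp4, rs4, rq4, ru4, hco, hw, ← hdij] at h
    exact_mod_cast (by push_cast at h ⊢; linarith : ((1 + 15 * S.cv c + 35 * S.cv a + 21 * S.cv b +
      35 * S.cv p + 21 * S.cv p' + 35 * S.cv q + 21 * S.cv q' + 2 * (R.D i * S.cv i) : ℤ) : ℚ) = 0)

include S in
theorem Setup.card_eq : Nat.card G = 175560 := by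
  rcases S.rows.main S.dvd S.odd with h | ⟨⟨X⟩⟩
  · exact h
  · exact (S.not_spurious X).elim

/-- Janko's order theorem. -/
theorem order_eq {H : Type u} [Group H] [Finite H] [IsSimpleGroup H] (t : H)
    (ht : Cfsg.IsTwoCentralInvolution t)
    (e : Subgroup.centralizer ({t} : Set H) ≃* Multiplicative (ZMod 2) × alternatingGroup (Fin 5)) :
    Nat.card H = 175560 := by
  classical
  obtain ⟨T, -⟩ := Setup.exists_of_equiv t ht e
  haveI : Fintype H := Fintype.ofFinite H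
  haveI : Fintype (IrrCharacter H) := Fintype.ofFinite _
  exact T.card_eq

end H16.J1
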