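import Mathlib

/-!
Finite facts about the group `Z2 × A5`.
-/

set_option autoImplicit false

namespace H16.J1

abbrev A5 : Type := alternatingGroup (Fin 5)
abbrev C2 : Type := Multiplicative (ZMod 2)
abbrev M : Type := C2 × A5

/-- The generator of the factor of order two. -/
def tau : M := (Multiplicative.ofAdd 1, 1)

def y3 : A5 := ⟨Equiv.swap 0 1 * Equiv.swap 1 2, Equiv.Perm.mem_alternatingGroup.2 (by decide)⟩
def y5 : A5 := ⟨Equiv.swap 0 1 * Equiv.swap 1 2 * (Equiv.swap 2 3 * Equiv.swap 3 4), Equiv.Perm.mem_alternatingGroup.2 (by decide)⟩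
/-- An involution of `A5` inverting `y3`. -/
def v3 : A5 := ⟨Equiv.swap 1 2 * Equiv.swap 3 4, Equiv.Perm.mem_alternatingGroup.2 (by decide)⟩

/-- The four elements `t`, `t y` for `y` of odd order. -/
def zz : Fin 4 → M := ![tau, (Multiplicative.ofAdd 1, y3), (Multiplicative.ofAdd 1, y5),
  (Multiplicative.ofAdd 1, y5 ^ 2)]

/-- The orders of the centralisers of the `zz i`. -/
def cz : Fin 4 → ℕ := ![120, 6, 10, 10]

/-- The numbers of factorisations of the `zz i` as two involutions. -/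
def nz : Fin 4 → ℕ := ![30, 6, 10, 10]

theorem a5_center : ∀ a : A5, (∀ b : A5, a * b = b * a) → a = 1 := by decide +kernel

theorem a5_conj_inv : ∀ a : A5, a ^ 2 = 1 → a ≠ 1 → ∀ b : A5, b ^ 2 = 1 → b ≠ 1 →
    ∃ g : A5, g * a * g⁻¹ = b := by decide +kernel

theorem four_mul : ∀ a : A5, ∀ b : A5, a ^ 2 = 1 → (a : Equiv.Perm (Fin 5)) 4 = 4 → b ^ 2 = 1 →
    (b : Equiv.Perm (Fin 5)) 4 = 4 → (a * b) ^ 2 = 1 ∧ ((a * b : A5) : Equiv.Perm (Fin 5)) 4 = 4 := by
  decide +kernel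

theorem card_four : (Finset.univ.filter fun a : A5 =>
    a ^ 2 = 1 ∧ (a : Equiv.Perm (Fin 5)) 4 = 4).card = 4 := by decide +kernel

theorem card_cent : ∀ i : Fin 4,
    (Finset.univ.filter fun m : M => m * zz i = zz i * m).card = cz i := by decide +kernel

theorem card_fact : ∀ i : Fin 4, (Finset.univ.filter fun u : M => (u ^ 2 = 1 ∧ u ≠ 1) ∧
    (u * zz i) ^ 2 = 1 ∧ u * zz i ≠ 1).card = nz i := by decide +kernel

theorem not_conj : ∀ i j : Fin 4, i ≠ j → ∀ m : M, m * zz i * m⁻¹ ≠ zz j := by decide +kernel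

theorem real_zz : ∀ i : Fin 4, ∃ m : M, m * zz i * m⁻¹ = (zz i)⁻¹ := by decide +kernel

theorem pow15 : ∀ i : Fin 4, zz i ^ 15 = tau := by decide +kernel

theorem conj_cube : ∃ m : M, m * zz 2 ^ 3 * m⁻¹ = zz 3 := by decide +kernel

theorem conj_sq : ∃ m : A5, m * y3 ^ 2 * m⁻¹ = y3 := by decide +kernel

theorem v3_facts : v3 ^ 2 = 1 ∧ v3 ≠ 1 ∧ v3 * y3 * v3⁻¹ = y3⁻¹ ∧ y3 ^ 3 = 1 ∧ y3 ≠ 1 := by
  decide +kernel

/-- The element of order three inside `Z2 × A5`. -/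
def m3 : M := (1, y3)

/-- An involution inverting `m3`. -/
def mv : M := (1, v3)

theorem cent_y3_card : (Finset.univ.filter fun m : M => m * m3 = m3 * m ∧
    m ^ 15 = 1).card = 3 := by decide +kernel

theorem cent_y3_v_card : (Finset.univ.filter fun m : M =>
    (m * m3 = m3 * m ∧ m ^ 15 = 1) ∧ m * mv = mv * m).card = 1 := by decide +kernel

theorem cent_y3_v (m : M) (h1 : m * m3 = m3 * m) (h2 : m ^ 15 = 1) (h3 : m * mv = mv * m) :
    m = 1 := by
  obtain ⟨a, ha⟩ := Finset.card_eq_one.1 cent_y3_v_card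
  have hm : m ∈ ({a} : Finset M) := ha ▸ by simp [h1, h2, h3]
  have h1' : (1 : M) ∈ ({a} : Finset M) := ha ▸ by simp
  rw [Finset.mem_singleton] at hm h1'
  rw [hm, h1']

theorem odd_comm : ∀ a : A5, a ^ 15 = 1 → a ≠ 1 → (Finset.univ.filter fun b : A5 =>
    b ^ 15 = 1 ∧ a * b = b * a).card = 3 ∨ (Finset.univ.filter fun b : A5 =>
    b ^ 15 = 1 ∧ a * b = b * a).card = 5 := by decide +kernel

theorem orders : ∀ m : M, m ^ 30 = 1 := by decide +kernel

end H16.J1
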