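import Cfsg.Agent.H16.Janko1.Arith
import Cfsg.Agent.H16.Janko1.ArithFour

/-!
The integral rows: combinatorial classification.
-/

set_option autoImplicit false

namespace H16.J1

open Finset

variable {ι : Type*} [Fintype ι]

/-- The integral data attached to the irreducible characters. -/
structure RowSys (ι : Type*) [Fintype ι] (g : ℕ) where
  e : ι → ℤ
  x : ι → ℤ
  y : ι → ℤ
  m : ι → ℤ
  D : ι → ℤ
  o : ι
  oe : e o = 1
  ox : x o = -1
  oy : y o = -1
  oD : D o = 1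
  px : ∀ i, e i % 2 = x i % 2
  py : ∀ i, e i % 2 = y i % 2
  see : ∑ i, e i * e i = 8
  sxx : ∑ i, x i * x i = 8
  syy : ∑ i, y i * y i = 8
  sex : ∑ i, e i * x i = 0
  sey : ∑ i, e i * y i = 0
  sxy : ∑ i, x i * y i = 0
  smm : ∑ i, m i * m i = 2
  sme : ∑ i, m i * e i = 0
  smx : ∑ i, m i * x i = 0
  smy : ∑ i, m i * y i = 0
  de : ∑ i, D i * e i = 0
  dx : ∑ i, D i * x i = 0
  dy : ∑ i, D i * y i = 0
  dm : ∑ i, D i * m i = 0
  ste : ∑ i, ((3 * e i + x i + y i + 4 * m i : ℤ) : ℚ) * (3 * e i + x i + y i + 4 * m i : ℤ) / D i *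
    (e i : ℚ) = 14400 / (g : ℚ) * 14
  stx : ∑ i, ((3 * e i + x i + y i + 4 * m i : ℤ) : ℚ) * (3 * e i + x i + y i + 4 * m i : ℤ) / D i *
    (x i : ℚ) = 14400 / (g : ℚ) * (-6)
  sty : ∑ i, ((3 * e i + x i + y i + 4 * m i : ℤ) : ℚ) * (3 * e i + x i + y i + 4 * m i : ℤ) / D i *
    (y i : ℚ) = 14400 / (g : ℚ) * (-6)
  stm : ∑ i, ((3 * e i + x i + y i + 4 * m i : ℤ) : ℚ) * (3 * e i + x i + y i + 4 * m i : ℤ) / D i *
    (m i : ℚ) = 0
  pos : ∀ i, 0 < D i
  dvd : ∀ i, D i ∣ (g : ℤ)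
  mod8 : ∀ i, (D i - (3 * e i + x i + y i + 4 * m i)) % 8 = 0
  nonneg : ∀ i, 0 ≤ D i + 7 * (3 * e i + x i + y i + 4 * m i)
  sq : ∑ i, D i * D i = (g : ℤ)

variable {g : ℕ} (R : RowSys ι g)

/-- The value at the involution. -/
def RowSys.F (i : ι) : ℤ := 3 * R.e i + R.x i + R.y i + 4 * R.m i

theorem sq_le_sum (u : ι → ℤ) (i : ι) : u i * u i ≤ ∑ j, u j * u j :=
  single_le_sum (f := fun j => u j * u j) (fun j _ => mul_self_nonneg _) (mem_univ i)

theorem small_of_sq {a : ℤ} (h : a * a ≤ 8) : -2 ≤ a ∧ a ≤ 2 := ⟨by nlinarith, by nlinarith⟩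

theorem unit_of_odd {a : ℤ} (h : a * a ≤ 8) (h1 : a % 2 = 1) : a = 1 ∨ a = -1 := by
  have := small_of_sq h; omega

theorem two_of_even {a : ℤ} (h : a * a ≤ 8) (h1 : a % 2 = 0) : a = 0 ∨ a = 2 ∨ a = -2 := by
  have := small_of_sq h; omega

theorem RowSys.e_small (i : ι) : R.e i * R.e i ≤ 8 := R.see ▸ sq_le_sum R.e i

theorem RowSys.x_small (i : ι) : R.x i * R.x i ≤ 8 := R.sxx ▸ sq_le_sum R.x i

theorem RowSys.y_small (i : ι) : R.y i * R.y i ≤ 8 := R.syy ▸ sq_le_sum R.y i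

theorem sum_two {K : Type*} [AddCommMonoid K] (φ : ι → K) {i j : ι} (hij : i ≠ j)
    (h : ∀ k, k ≠ i → k ≠ j → φ k = 0) : ∑ k, φ k = φ i + φ j :=
  Fintype.sum_eq_add i j hij fun k hk => h k hk.1 hk.2

/-- The two rows with nonzero last coordinate. -/
theorem RowSys.mrows : ∃ i j, i ≠ j ∧ R.m i = 1 ∧ R.m j = -1 ∧ R.D i = R.D j ∧
    (R.e i = 0 ∧ R.x i = 0 ∧ R.y i = 0) ∧ (R.e j = 0 ∧ R.x j = 0 ∧ R.y j = 0) ∧
    ∀ k, k ≠ i → k ≠ j → R.m k = 0 := by
  classical
  have hm : ∀ i, R.m i = 0 ∨ R.m i = 1 ∨ R.m i = -1 := fun i => by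
    have h : R.m i * R.m i ≤ 2 := R.smm ▸ sq_le_sum R.m i
    have := small_of_sq (show R.m i * R.m i ≤ 8 by linarith)
    rcases (show R.m i = -2 ∨ R.m i = -1 ∨ R.m i = 0 ∨ R.m i = 1 ∨ R.m i = 2 by omega) with
      h' | h' | h' | h' | h'
    · rw [h'] at h; norm_num at h
    · exact Or.inr (Or.inr h')
    · exact Or.inl h'
    · exact Or.inr (Or.inl h')
    · rw [h'] at h; norm_num at h
  have hcard : (univ.filter fun i => R.m i ≠ 0).card = 2 := by
    have h : ∑ i, R.m i * R.m i = ((univ.filter fun i => R.m i ≠ 0).card : ℤ) := by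
      rw [Finset.card_filter, Nat.cast_sum]
      refine sum_congr rfl fun i _ => ?_
      rcases hm i with h | h | h <;> simp [h]
    rw [R.smm] at h
    exact_mod_cast h.symm
  obtain ⟨i, j, hij, hs⟩ := card_eq_two.1 hcard
  have hz : ∀ k, k ≠ i → k ≠ j → R.m k = 0 := fun k hi hj => by
    by_contra h
    have : k ∈ ({i, j} : Finset ι) := hs ▸ mem_filter.2 ⟨mem_univ k, h⟩
    simp [hi, hj] at this
  have hi0 : R.m i ≠ 0 := (mem_filter.1 (hs ▸ mem_insert_self i {j} : i ∈ univ.filter fun i => R.m i ≠ 0)).2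
  have hj0 : R.m j ≠ 0 := (mem_filter.1 (hs ▸ mem_insert_of_mem (mem_singleton_self j) :
    j ∈ univ.filter fun i => R.m i ≠ 0)).2
  have two : ∀ u : ι → ℤ, ∑ k, R.m k * u k = R.m i * u i + R.m j * u j := fun u =>
    sum_two _ hij fun k h1 h2 => by rw [hz k h1 h2, zero_mul]
  have hd : R.m i * R.D i + R.m j * R.D j = 0 := by
    rw [← two, ← R.dm]; exact sum_congr rfl fun k _ => mul_comm _ _
  have hopp : R.m j = -R.m i := by
    have := R.pos i; have := R.pos j
    rcases hm i with h | h | h <;> rcases hm j with h' | h' | h' <;>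
      simp only [h, h', one_mul, neg_mul, zero_mul] at hd hi0 hj0 ⊢ <;> omega
  have hD : R.D i = R.D j := by
    rcases hm i with h | h | h <;> simp only [hopp, h, one_mul, neg_mul, neg_neg] at hd hi0 <;> omega
  have same : ∀ u : ι → ℤ, ∑ k, R.m k * u k = 0 → u i = u j := fun u hu => by
    rw [two, hopp] at hu
    have : R.m i * (u i - u j) = 0 := by linarith
    linarith [(mul_eq_zero.1 this).resolve_left hi0]
  have he := same _ R.sme
  have hx := same _ R.smx
  have hy := same _ R.smy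
  have hev : R.e i % 2 = 0 := by
    by_contra hodd
    have h1 := unit_of_odd (R.e_small i) (by omega)
    have h2 := unit_of_odd (R.x_small i) (by have := R.px i; omega)
    have h3 := unit_of_odd (R.y_small i) (by have := R.py i; omega)
    have hst := R.stm
    rw [sum_two _ hij (fun k k1 k2 => by rw [hz k k1 k2]; simp), hopp, ← he, ← hx, ← hy, ← hD] at hst
    have hDq : (R.D i : ℚ) ≠ 0 := by exact_mod_cast (R.pos i).ne'
    field_simp at hst
    push_cast at hst
    have : (16 : ℚ) * ((3 * R.e i + R.x i + R.y i : ℤ) : ℚ) * (R.m i * R.m i) = 0 := by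
      push_cast; linear_combination hst
    have hmm : (R.m i : ℚ) * R.m i = 1 := by
      rcases hm i with h | h | h <;> first | exact absurd h hi0 | (rw [h]; norm_num)
    rw [hmm, mul_one, mul_eq_zero] at this
    have h0 : (3 * R.e i + R.x i + R.y i : ℤ) = 0 := by
      exact_mod_cast this.resolve_left (by norm_num)
    omega
  have vanish : ∀ u : ι → ℤ, (∑ k, u k * u k = 8) → u i = u j → u R.o * u R.o = 1 → u i % 2 = 0 →
      u i = 0 := by
    intro u hu huij huo hu2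
    by_contra hne
    have hoi : R.o ≠ i := fun h => by rw [h] at huo; rcases Int.eq_one_or_neg_one_of_mul_eq_one huo with h' | h' <;> omega
    have hoj : R.o ≠ j := fun h => by rw [h, ← huij] at huo; rcases Int.eq_one_or_neg_one_of_mul_eq_one huo with h' | h' <;> omega
    have hle : ∑ k ∈ ({R.o, i, j} : Finset ι), u k * u k ≤ 8 :=
      hu ▸ sum_le_sum_of_subset_of_nonneg (subset_univ _) fun k _ _ => mul_self_nonneg _
    rw [sum_insert (by simp [hoi, hoj]), sum_pair hij, huo, ← huij] at hle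
    have h8 : u i * u i ≤ 8 := hu ▸ sq_le_sum u i
    rcases two_of_even h8 hu2 with h | h | h
    · exact hne h
    · rw [h] at hle; norm_num at hle
    · rw [h] at hle; norm_num at hle
  have e0 := vanish R.e R.see he (by rw [R.oe]; norm_num) hev
  have x0 := vanish R.x R.sxx hx (by rw [R.ox]; norm_num) (by have := R.px i; omega)
  have y0 := vanish R.y R.syy hy (by rw [R.oy]; norm_num) (by have := R.py i; omega)
  rcases hm i with h | h | h
  · exact absurd h hi0
  · exact ⟨i, j, hij, h, by rw [hopp, h], hD, ⟨e0, x0, y0⟩, ⟨he ▸ e0, hx ▸ x0, hy ▸ y0⟩, hz⟩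
  · exact ⟨j, i, Ne.symm hij, by rw [hopp, h]; norm_num, h, hD.symm,
      ⟨he ▸ e0, hx ▸ x0, hy ▸ y0⟩, ⟨e0, x0, y0⟩, fun k h1 h2 => hz k h2 h1⟩

theorem RowSys.m_zero {i : ι} (h : R.e i ≠ 0 ∨ R.x i ≠ 0 ∨ R.y i ≠ 0) : R.m i = 0 := by
  obtain ⟨a, b, -, -, -, -, ⟨a1, a2, a3⟩, ⟨b1, b2, b3⟩, hz⟩ := R.mrows
  refine hz i ?_ ?_ <;> rintro rfl <;> rcases h with h | h | h <;> contradiction

/-- The odd rows. -/
def RowSys.oddSet : Finset ι := univ.filter fun i => R.e i % 2 = 1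

/-- The even rows in which a coordinate does not vanish. -/
def evenSupp (u : ι → ℤ) : Finset ι := univ.filter fun i => u i % 2 = 0 ∧ u i ≠ 0

theorem count_eight (u : ι → ℤ) (h : ∑ i, u i * u i = 8) :
    ((univ.filter fun i => u i % 2 = 1).card : ℤ) + 4 * (evenSupp u).card = 8 := by
  classical
  rw [← h, evenSupp, Finset.card_filter, Finset.card_filter, Nat.cast_sum, Nat.cast_sum, mul_sum,
    ← sum_add_distrib]
  refine sum_congr rfl fun i _ => ?_
  have hi : u i * u i ≤ 8 := h ▸ sq_le_sum u i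
  rcases Int.emod_two_eq_zero_or_one (u i) with h0 | h0
  · rcases two_of_even hi h0 with h' | h' | h' <;> simp [h']
  · rcases unit_of_odd hi h0 with h' | h' <;> simp [h']

theorem RowSys.oddSet_x : (univ.filter fun i => R.x i % 2 = 1) = R.oddSet :=
  filter_congr fun i _ => by rw [R.px]

theorem RowSys.oddSet_y : (univ.filter fun i => R.y i % 2 = 1) = R.oddSet :=
  filter_congr fun i _ => by rw [R.py]

theorem RowSys.card_oddSet : (R.oddSet.card = 8 ∧ evenSupp R.e = ∅ ∧ evenSupp R.x = ∅ ∧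
      evenSupp R.y = ∅) ∨ (R.oddSet.card = 4 ∧ (evenSupp R.e).card = 1 ∧
      (evenSupp R.x).card = 1 ∧ (evenSupp R.y).card = 1) := by
  have he : (R.oddSet.card : ℤ) + 4 * (evenSupp R.e).card = 8 := count_eight _ R.see
  have hx := count_eight _ R.sxx
  have hy := count_eight _ R.syy
  rw [R.oddSet_x] at hx
  rw [R.oddSet_y] at hy
  have hpos : 0 < R.oddSet.card :=
    card_pos.2 ⟨R.o, mem_filter.2 ⟨mem_univ _, by rw [R.oe]; norm_num⟩⟩
  rcases (show R.oddSet.card = 8 ∨ R.oddSet.card = 4 by omega) with h | h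
  · refine Or.inl ⟨h, ?_, ?_, ?_⟩ <;> rw [← card_eq_zero] <;> omega
  · exact Or.inr ⟨h, by omega, by omega, by omega⟩

/-- Two coordinates share no nonzero even row. -/
theorem no_shared (u w D : ι → ℤ) (hu : ∑ i, u i * u i = 8) (hw : ∑ i, w i * w i = 8)
    (huw : ∑ i, u i * w i = 0) (hdu : ∑ i, D i * u i = 0) (hdw : ∑ i, D i * w i = 0)
    (hD : ∀ i, 0 < D i) (hp : ∀ i, u i % 2 = w i % 2)
    (hS : (univ.filter fun i => u i % 2 = 1).card = 4) {i₀ : ι} (h1 : u i₀ % 2 = 0) (h2 : u i₀ ≠ 0)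
    (h3 : w i₀ ≠ 0) : False := by
  classical
  set S := univ.filter fun i => u i % 2 = 1 with hSdef
  have hu1 : (evenSupp u).card = 1 := by
    have := count_eight u hu; rw [← hSdef, hS] at this; omega
  have hw1 : (evenSupp w).card = 1 := by
    have := count_eight w hw
    rw [show (univ.filter fun i => w i % 2 = 1) = S from filter_congr fun i _ => by rw [hp], hS] at this
    omega
  have zero : ∀ v : ι → ℤ, (evenSupp v).card = 1 → v i₀ % 2 = 0 → v i₀ ≠ 0 → ∀ k, k ≠ i₀ →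
      v k % 2 = 0 → v k = 0 := by
    intro v hv ha hb k hk hk2
    by_contra hne
    exact hk (card_le_one.1 hv.le k (mem_filter.2 ⟨mem_univ _, hk2, hne⟩) i₀
      (mem_filter.2 ⟨mem_univ _, ha, hb⟩))
  have hw2 : w i₀ % 2 = 0 := by rw [← hp]; exact h1
  obtain ⟨c, hc, hwc⟩ : ∃ c : ℤ, (c = 1 ∨ c = -1) ∧ w i₀ = c * u i₀ := by
    rcases two_of_even (hu ▸ sq_le_sum u i₀) h1 with a | a | a <;>
      rcases two_of_even (hw ▸ sq_le_sum w i₀) hw2 with b | b | b <;>
      first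
      | exact absurd a h2
      | exact absurd b h3
      | (refine ⟨1, Or.inl rfl, ?_⟩; omega)
      | (refine ⟨-1, Or.inr rfl, ?_⟩; omega)
  have hsplit : ∀ φ : ι → ℤ, (∀ k, k ≠ i₀ → u k % 2 = 0 → φ k = 0) →
      ∑ k, φ k = φ i₀ + ∑ k ∈ S, φ k := by
    intro φ hφ
    rw [← sum_insert (f := φ) (s := S) (a := i₀) (by simp [hSdef, h1])]
    symm
    refine sum_subset (subset_univ _) fun k _ hk => ?_
    simp only [hSdef, mem_insert, mem_filter, mem_univ, true_and, not_or] at hk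
    exact hφ k hk.1 (by omega)
  have hS1 : ∀ k ∈ S, (u k = 1 ∨ u k = -1) ∧ (w k = 1 ∨ w k = -1) := fun k hk => by
    have := (mem_filter.1 hk).2
    exact ⟨unit_of_odd (hu ▸ sq_le_sum u k) this, unit_of_odd (hw ▸ sq_le_sum w k) (hp k ▸ this)⟩
  have hsum : ∑ k ∈ S, c * (u k * w k) = -4 := by
    have h := hsplit (fun k => u k * w k) fun k hk hk2 => by
      rw [zero u hu1 h1 h2 k hk hk2, zero_mul]
    rw [huw, hwc] at h
    have hu4 : u i₀ * u i₀ = 4 := by
      rcases two_of_even (hu ▸ sq_le_sum u i₀) h1 with a | a | a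
      · exact absurd a h2
      all_goals rw [a]; norm_num
    rw [← mul_sum, eq_neg_of_add_eq_zero_right h.symm]
    rcases hc with rfl | rfl <;> linarith
  have hall : ∀ k ∈ S, w k = -c * u k := by
    have hge : ∀ k ∈ S, (0 : ℤ) ≤ 1 + c * (u k * w k) := fun k hk => by
      rcases hc with rfl | rfl <;> rcases (hS1 k hk).1 with a | a <;>
        rcases (hS1 k hk).2 with b | b <;> simp [a, b]
    have hz : ∑ k ∈ S, (1 + c * (u k * w k)) = 0 := by
      rw [sum_add_distrib, hsum, sum_const, hS]; norm_num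
    intro k hk
    have := (sum_eq_zero_iff_of_nonneg hge).1 hz k hk
    rcases hc with rfl | rfl <;> rcases (hS1 k hk).1 with a | a <;>
      rcases (hS1 k hk).2 with b | b <;> simp [a, b] at this ⊢
  have hfin := hsplit (fun k => D k * (w k + c * u k)) fun k hk hk2 => by
    rw [zero u hu1 h1 h2 k hk hk2, zero w hw1 hw2 h3 k hk (hp k ▸ hk2)]; ring
  have hl : ∑ k, D k * (w k + c * u k) = 0 := by
    simp only [mul_add, sum_add_distrib, mul_left_comm _ c, ← mul_sum, hdu, hdw]; ring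
  rw [hl, sum_eq_zero (s := S) (fun k hk => by rw [hall k hk]; ring), hwc] at hfin
  have : D i₀ * (c * u i₀) = 0 := by linarith
  rcases mul_eq_zero.1 this with h | h
  · exact (hD i₀).ne' h
  · rw [← hwc] at h; exact h3 h

/-- The sign pattern of a line. -/
def pat : Fin 4 → ℤ × ℤ := ![(-1, -1), (1, 1), (1, -1), (-1, 1)]

/-- The rows on a line. -/
def RowSys.line (k : Fin 4) : Finset ι :=
  R.oddSet.filter fun i => (R.e i * R.x i, R.e i * R.y i) = pat k

theorem RowSys.units {i : ι} (hi : i ∈ R.oddSet) :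
    (R.e i = 1 ∨ R.e i = -1) ∧ (R.x i = 1 ∨ R.x i = -1) ∧ (R.y i = 1 ∨ R.y i = -1) := by
  have h := (mem_filter.1 hi).2
  exact ⟨unit_of_odd (R.e_small i) h, unit_of_odd (R.x_small i) (R.px i ▸ h),
    unit_of_odd (R.y_small i) (R.py i ▸ h)⟩

theorem RowSys.sum_lines {K : Type*} [AddCommMonoid K] (φ : ι → K) :
    ∑ i ∈ R.oddSet, φ i = ∑ k, ∑ i ∈ R.line k, φ i := by
  classical
  simp only [RowSys.line, sum_filter]
  rw [sum_comm]
  refine sum_congr rfl fun i hi => ?_
  obtain ⟨h1, h2, h3⟩ := R.units hi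
  rcases h1 with a | a <;> rcases h2 with b | b <;> rcases h3 with c | c <;>
    simp [Fin.sum_univ_four, pat, a, b, c]

theorem RowSys.sum_line_card (k : Fin 4) (φ : ι → ℤ) (c : ℤ) (h : ∀ i ∈ R.line k, φ i = c) :
    ∑ i ∈ R.line k, φ i = (R.line k).card * c := by
  rw [sum_congr rfl h, sum_const, nsmul_eq_mul]

theorem RowSys.mem_line {k : Fin 4} {i : ι} (hi : i ∈ R.line k) :
    i ∈ R.oddSet ∧ (R.e i = 1 ∨ R.e i = -1) ∧ R.x i = (pat k).1 * R.e i ∧
      R.y i = (pat k).2 * R.e i := by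
  obtain ⟨h1, h2⟩ := mem_filter.1 hi
  obtain ⟨he, -, -⟩ := R.units h1
  refine ⟨h1, he, ?_, ?_⟩
  · rw [← show R.e i * R.x i = (pat k).1 from congrArg Prod.fst h2]
    rcases he with a | a <;> rw [a] <;> ring
  · rw [← show R.e i * R.y i = (pat k).2 from congrArg Prod.snd h2]
    rcases he with a | a <;> rw [a] <;> ring

theorem RowSys.line_counts (hx : ∑ i ∈ R.oddSet, R.e i * R.x i = 0)
    (hy : ∑ i ∈ R.oddSet, R.e i * R.y i = 0) (hxy : ∑ i ∈ R.oddSet, R.x i * R.y i = 0) (k : Fin 4) :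
    4 * ((R.line k).card : ℤ) = R.oddSet.card := by
  have hc : (R.oddSet.card : ℤ) = ∑ k, ((R.line k).card : ℤ) := by
    have := R.sum_lines (fun _ => (1 : ℤ))
    simpa [sum_const] using this
  have e1 : ∀ k, ∑ i ∈ R.line k, R.e i * R.x i = (R.line k).card * (pat k).1 := fun k =>
    R.sum_line_card k _ _ fun i hi => by
      obtain ⟨-, he, h1, -⟩ := R.mem_line hi
      rw [h1]; rcases he with a | a <;> rw [a] <;> ring
  have e2 : ∀ k, ∑ i ∈ R.line k, R.e i * R.y i = (R.line k).card * (pat k).2 := fun k =>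
    R.sum_line_card k _ _ fun i hi => by
      obtain ⟨-, he, -, h2⟩ := R.mem_line hi
      rw [h2]; rcases he with a | a <;> rw [a] <;> ring
  have e3 : ∀ k, ∑ i ∈ R.line k, R.x i * R.y i = (R.line k).card * ((pat k).1 * (pat k).2) := fun k =>
    R.sum_line_card k _ _ fun i hi => by
      obtain ⟨-, he, h1, h2⟩ := R.mem_line hi
      rw [h1, h2]; rcases he with a | a <;> rw [a] <;> ring
  rw [R.sum_lines] at hx hy hxy
  simp only [e1, e2, e3, Fin.sum_univ_four, pat, Matrix.cons_val_zero, Matrix.cons_val_one,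
    Matrix.cons_val] at hx hy hxy hc
  fin_cases k <;> simp only [Fin.isValue, Fin.reduceFinMk, Fin.zero_eta, Fin.mk_one] <;> linarith

end H16.J1
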